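import Cfsg.Agent.S3Free.Pack
import Cfsg.Agent.Invol.BaerSuzuki
import Cfsg.Agent.JankoRee.PSLFacts

/-!
# The groups `PSL(2, q)` with `q` congruent to 3 modulo 8
-/

set_option autoImplicit false

namespace Cfsg.Agent.S3Free

open Subgroup Matrix
open Cfsg.Agent.SfFree (cj ea_commute ea_sq)
open Cfsg.Agent.SL2Class (proj)
open Cfsg.Agent.Classical

universe u

variable {F : Type u} [Field F] [Fintype F]

local notation "PG" => Matrix.ProjectiveSpecialLinearGroup (Fin 2) F
local notation "SG" => Matrix.SpecialLinearGroup (Fin 2) F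

/-- The 2-subgroups lie in Klein four groups. -/
theorem psl_two_group (hq : Fintype.card F % 8 = 3) {E : Subgroup PG} (hE : IsPGroup 2 E) :
    ∃ V : Subgroup PG, IsKleinFour V ∧ E ≤ V := by
  have := Fact.mk Nat.prime_two
  obtain ⟨P, hP⟩ := hE.exists_le_sylow
  exact ⟨P, sylow_two_psl2 rfl (Or.inl hq) P, hP⟩

theorem psl_four_le (hq : Fintype.card F % 8 = 3) (hs : IsSimpleGroup PG) :
    4 ≤ Fintype.card F := by
  by_contra hlt
  have h3 : Fintype.card F = 3 := by omega
  have h2 := two_ne_zero_of_odd (F := F) (Nat.odd_iff.2 (by omega))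
  obtain ⟨V, hV⟩ := PKlein.exists_klein (F := F) h2
  have h12 := PKlein.normalizer_twelve h2 rfl (Or.inl hq) V
  have hcard : Nat.card PG = 12 := by
    have := PKlein.card_psl_two (F := F) h2
    rw [Cfsg.Agent.SL2Class.card_sl, h3] at this
    omega
  have hn : (Subgroup.normalizer (V : Set PG)) = ⊤ := eq_top_of_card_eq _ (h12.trans hcard.symm)
  rcases hs.eq_bot_or_eq_top_of_normal V (normalizer_eq_top_iff.1 hn) with h | h
  · have := (IsKleinFour.card_four (G := V))
    rw [h, Subgroup.card_bot] at this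
    omega
  · have := (IsKleinFour.card_four (G := V))
    rw [h, Subgroup.card_top, hcard] at this
    omega

/-- Packages exist for all nontrivial elementary abelian 2-subgroups. -/
theorem psl_pack (hq : Fintype.card F % 8 = 3) (hs : IsSimpleGroup PG) (h3 : NoThree PG)
    (E : Subgroup PG) (hE : Cfsg.IsElementaryAbelian 2 E) (hE1 : E ≠ ⊥) : Pack E := by
  have := Fact.mk Nat.prime_two
  have h4 := psl_four_le hq hs
  have h2 := two_ne_zero_of_odd (F := F) (Nat.odd_iff.2 (by omega))
  obtain ⟨V, hV, hEV⟩ := psl_two_group hq (Thompson.ea_isPGroup hE)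
  have hcV : Nat.card V = 4 := hV.card_four
  have hd : Nat.card E ∣ 2 ^ 2 := by simpa [hcV] using card_dvd_of_le hEV
  obtain ⟨k, hk2, hk⟩ := (Nat.dvd_prime_pow Nat.prime_two).1 hd
  obtain ⟨t, htE, ht1⟩ := (bot_or_exists_ne_one E).resolve_left hE1
  obtain rfl | rfl : k = 1 ∨ k = 2 := by
    rcases Nat.eq_zero_or_pos k with rfl | h
    · exact absurd (card_eq_one.1 (hk.trans (pow_zero _))) hE1
    · omega
  · -- order two
    have hto : orderOf t = 2 := orderOf_eq_prime (by rw [pow_two]; exact ea_sq hE htE) ht1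
    obtain ⟨g, y, hy1, hyo, -, hy⟩ := Invol.exists_inverted_odd (G := PG) hto fun N hN hN2 htN => by
      rcases hs.eq_bot_or_eq_top_of_normal N hN with h | h
      · exact ht1 (mem_bot.1 (h ▸ htN))
      · subst h
        obtain ⟨W, hW, hle⟩ := psl_two_group hq hN2
        have hc := card_le_of_le hle
        rw [Subgroup.card_top, hW.card_four] at hc
        have hc2 := PKlein.card_psl_two (F := F) h2
        rw [Cfsg.Agent.SL2Class.card_sl] at hc2
        have : 4 * (4 ^ 2 - 1) ≤ Fintype.card F * (Fintype.card F ^ 2 - 1) :=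
          Nat.mul_le_mul h4 (Nat.sub_le_sub_right (Nat.pow_le_pow_left h4 2) 1)
        omega
    have hb : Nat.card (⊥ : Subgroup PG) = 1 := Subgroup.card_bot
    exact (packW_of_hyperplane h3 hE bot_le (by rw [hb, hk, pow_one]) htE
      ⟨mem_top g, mem_centralizer_iff.2 fun z hz => by rw [mem_bot.1 hz, one_mul, mul_one]⟩
      hy hy1 hyo).mono le_rfl fun _ h => h.1
  · -- a four-group
    have hEV' : E = V := eq_of_le_of_card_ge hEV (by rw [hcV, hk]; norm_num)
    subst hEV'
    obtain ⟨x, y, hx, hy, x1, y1, hxy⟩ := KleinN.exists_basis E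
    obtain ⟨g, rfl⟩ := Cfsg.Agent.SL2Class.proj_surjective x
    obtain ⟨h, rfl⟩ := Cfsg.Agent.SL2Class.proj_surjective y
    obtain ⟨hg, hh, hgh⟩ := PKlein.lifts_of_mem h2 E hx hy x1 y1 hxy (g := g) (h := h) rfl rfl
    obtain ⟨-, htr, -, -⟩ := PKlein.t0_props h2 hg
    obtain ⟨s, hs0, hs1⟩ := Small.exists_sq_ne_one h4
    have hs2 : 1 + s ^ 2 ≠ 0 := fun e => by
      have : IsSquare (-1 : F) := ⟨s, by linear_combination -e⟩
      rw [FiniteField.isSquare_neg_one_iff] at this
      omega
    set a := 2 * s / (1 + s ^ 2) with ha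
    set b := (1 - s ^ 2) / (1 + s ^ 2) with hb
    have ha0 : a ≠ 0 := div_ne_zero (mul_ne_zero h2 hs0) hs2
    have hb0 : b ≠ 0 := div_ne_zero (sub_ne_zero.2 (Ne.symm hs1)) hs2
    have hab : a ^ 2 + b ^ 2 = 1 := by rw [ha, hb]; field_simp; ring
    set G0 : Matrix (Fin 2) (Fin 2) F := (g : Matrix (Fin 2) (Fin 2) F) with hG0
    set H0 : Matrix (Fin 2) (Fin 2) F := (h : Matrix (Fin 2) (Fin 2) F) with hH0
    have hG2 : G0 * G0 = -1 := by simpa using congrArg Subtype.val hg
    have hGH : G0 * H0 = -(H0 * G0) := by simpa using congrArg Subtype.val hgh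
    have htr' : G0 1 1 = -G0 0 0 := by
      simp [Cfsg.Agent.SL2Class.tr, Matrix.trace_fin_two] at htr
      linear_combination htr
    have hdet : G0 0 0 * G0 1 1 - G0 0 1 * G0 1 0 = 1 := by
      rw [← Matrix.det_fin_two]; exact g.2
    let M : SG := ⟨a • 1 + b • G0, by
      rw [Matrix.det_fin_two]
      simp [htr'] at hdet ⊢
      linear_combination b ^ 2 * hdet + hab⟩
    let M' : SG := ⟨a • 1 - b • G0, by
      rw [Matrix.det_fin_two]
      simp [htr'] at hdet ⊢
      linear_combination b ^ 2 * hdet + hab⟩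
    have hMM : M * M' = 1 := Subtype.ext (by
      show (a • 1 + b • G0) * (a • 1 - b • G0) = 1
      simp only [add_mul, mul_sub, smul_mul_assoc, mul_smul_comm, one_mul, mul_one, hG2]
      ext i j
      fin_cases i <;> fin_cases j <;> simp <;> first | linear_combination hab | ring1)
    set m := proj M
    have hgm : Commute (proj g) m := by
      rw [Commute, SemiconjBy, ← map_mul, ← map_mul]
      congr 1
      refine Subtype.ext ?_
      show G0 * (a • 1 + b • G0) = (a • 1 + b • G0) * G0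
      simp [mul_add, add_mul, mul_smul_comm, smul_mul_assoc]
    have hhm : proj h * m * (proj h)⁻¹ = m⁻¹ := by
      rw [mul_inv_eq_iff_eq_mul, ← map_inv, inv_eq_of_mul_eq_one_right hMM, ← map_mul, ← map_mul]
      congr 1
      refine Subtype.ext ?_
      show H0 * (a • 1 + b • G0) = (a • 1 - b • G0) * H0
      simp [mul_add, sub_mul, mul_smul_comm, smul_mul_assoc, hGH]
    have hm2 : m ^ 2 ≠ 1 := fun e => by
      rw [pow_two, mul_eq_one_iff_eq_inv, ← map_inv, inv_eq_of_mul_eq_one_right hMM] at e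
      obtain ⟨hns, -⟩ := PKlein.t0_props h2 hg
      rcases Cfsg.Agent.SL2Class.proj_eq_iff.1 e with e' | e'
      · have e2 : a • (1 : Matrix (Fin 2) (Fin 2) F) - b • G0 = a • 1 + b • G0 := congrArg Subtype.val e'
        have e3 : b • G0 = 0 := by
          ext i j
          have := congrFun (congrFun e2 i) j
          simp only [Matrix.add_apply, Matrix.sub_apply, Matrix.smul_apply, smul_eq_mul] at this
          simp only [Matrix.smul_apply, smul_eq_mul, Matrix.zero_apply]
          exact (mul_eq_zero.1 (show (2 : F) * (b * G0 i j) = 0 by linear_combination -this)).resolve_left h2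
        have e4 := congrArg (fun X => G0 * X) e3
        simp [mul_smul_comm, hG2, hb0] at e4
      · have e2 : a • (1 : Matrix (Fin 2) (Fin 2) F) - b • G0 = -(a • 1 + b • G0) := congrArg Subtype.val e'
        have := congrFun (congrFun e2 0) 0
        simp at this
        exact (mul_ne_zero h2 ha0) (by linear_combination this)
    obtain ⟨j, u, hu, he⟩ := Nat.exists_eq_pow_mul_and_not_dvd (orderOf_pos m).ne' 2 (by norm_num)
    set Y := zpowers (m ^ 2 ^ j)
    have hyo : orderOf (m ^ 2 ^ j) = u := by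
      rw [orderOf_pow_of_dvd (by positivity) ⟨u, he⟩, he, Nat.mul_div_cancel_left _ (by positivity)]
    have hYo : Odd (Nat.card Y) := by rw [Nat.card_zpowers, hyo]; exact Nat.odd_iff.2 (by omega)
    have hEn : E ≤ normalizer (Y : Set PG) := by
      intro z hz
      have key : z * m ^ 2 ^ j * z⁻¹ = m ^ 2 ^ j ∨ z * m ^ 2 ^ j * z⁻¹ = (m ^ 2 ^ j)⁻¹ := by
        rw [← conj_pow, ← inv_pow]
        have hg' : proj g * m * (proj g)⁻¹ = m := by rw [hgm.eq, mul_inv_cancel_right]
        rcases KleinN.mem_cases E hx hy x1 y1 hxy hz with rfl | rfl | rfl | rfl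
        · exact Or.inl (by simp)
        · exact Or.inl (by rw [hg'])
        · exact Or.inr (by rw [hhm])
        · refine Or.inr ?_
          rw [show proj g * proj h * m * (proj g * proj h)⁻¹ =
            proj g * (proj h * m * (proj h)⁻¹) * (proj g)⁻¹ by group, hhm, ← conj_inv, hg']
      refine mem_normalizer_iff_map_conj_eq.2 ?_
      rw [MonoidHom.map_zpowers]
      show zpowers (z * m ^ 2 ^ j * z⁻¹) = Y
      rcases key with e | e <;> rw [e]
      rw [zpowers_inv]
    have hne : ¬ Y ≤ centralizer (E : Set PG) := fun hc => by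
      have hc' : proj h * m ^ 2 ^ j * (proj h)⁻¹ = m ^ 2 ^ j :=
        mul_inv_eq_iff_eq_mul.2 (mem_centralizer_iff.1 (hc (mem_zpowers _)) _ hy)
      rw [← conj_pow, hhm, inv_pow, inv_eq_iff_mul_eq_one, ← pow_two] at hc'
      have h1 : u ∣ 2 := hyo ▸ orderOf_dvd_of_pow_eq_one hc'
      have hu1 : u = 1 := ((Nat.dvd_prime Nat.prime_two).1 h1).resolve_right (fun e => hu (e ▸ dvd_rfl))
      obtain ⟨W, hW, hle⟩ := psl_two_group hq (E := zpowers m)
        (IsPGroup.of_card (n := j) (by rw [Nat.card_zpowers, he, hu1, mul_one]))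
      have := congrArg Subtype.val (IsKleinFour.mul_self (⟨m, hle (mem_zpowers m)⟩ : W))
      exact hm2 (by rw [pow_two]; exact this)
    exact (packW_of_odd h3 hE hYo hEn hne).mono le_top fun _ h => h.1

/-- An involution normalising a copy of `PSL(2, q)` induces an inner automorphism, if no section
is the symmetric group of degree three. -/
theorem psl_inner {H : Type*} [Group H] [Finite H]
    (hfree : ¬ Cfsg.Involves (Equiv.Perm (Fin 3)) H) (hq : Fintype.card F % 8 = 3)
    {L : Subgroup H} (e : L ≃* PG) {b : H} (hbL : b ∈ normalizer (L : Set H)) (hb : b * b = 1) :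
    ∃ l ∈ L, ∀ y ∈ L, b * y * b⁻¹ = l * y * l⁻¹ := by
  classical
  have := Fact.mk Nat.prime_two
  let α : MulAut L := L.normalizerMonoidHom ⟨b, hbL⟩
  let β : MulAut PG := MulAut.congr e α
  have hβdef : ∀ x, β x = e (α (e.symm x)) := fun x => rfl
  have hα2 : ∀ y, α (α y) = y := fun y => by
    refine Subtype.ext ?_
    show b * (b * (y : H) * b⁻¹) * b⁻¹ = y
    rw [show b * (b * (y : H) * b⁻¹) * b⁻¹ = (b * b) * y * (b * b)⁻¹ by group, hb]
    simp
  have hβ2 : β * β = 1 := MulEquiv.ext fun x => by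
    rw [MulAut.mul_apply, hβdef, hβdef, MulEquiv.symm_apply_apply, hα2, MulEquiv.apply_symm_apply]; rfl
  -- a fixed Sylow subgroup
  let _ : Fintype (Sylow 2 PG) := Fintype.ofFinite _
  have hββ : ∀ Q : Subgroup PG, (Q.map β.toMonoidHom).map β.toMonoidHom = Q := fun Q => by
    rw [Subgroup.map_map, show β.toMonoidHom.comp β.toMonoidHom = MonoidHom.id PG from
      MonoidHom.ext fun x => DFunLike.congr_fun hβ2 x, Subgroup.map_id]
  let τ : Sylow 2 PG → Sylow 2 PG := fun P =>
    Sylow.mapSurjective (f := β.toMonoidHom) (fun x => β.surjective x) P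
  have hτ : ∀ P, τ (τ P) = P := fun P => Sylow.ext (hββ (P : Subgroup PG))
  let σ : Equiv.Perm (Sylow 2 PG) := ⟨τ, τ, hτ, hτ⟩
  obtain ⟨P, hP⟩ : ∃ P, σ P = P := by
    refine Equiv.Perm.exists_fixed_point_of_prime (p := 2) (n := 1) (fun h => ?_) ?_
    · have := card_sylow_modEq_one 2 PG
      rw [Nat.card_eq_fintype_card, Nat.ModEq] at this
      omega
    · rw [pow_one, pow_two]
      exact Equiv.ext σ.left_inv
  set V : Subgroup PG := (P : Subgroup PG) with hVdef
  have hVk : IsKleinFour V := sylow_two_psl2 rfl (Or.inl hq) P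
  have hPmap : V.map β.toMonoidHom = V := congrArg Sylow.toSubgroup hP
  have hVmem : ∀ v ∈ V, β v ∈ V := fun v hv => hPmap.le ⟨v, hv, rfl⟩
  by_cases hfix : ∀ v ∈ V, β v = v
  · obtain ⟨w, -, hw⟩ := JankoRee.fixes_klein (Or.inl hq) V β 1 (by rw [pow_one, pow_two, hβ2]) hfix
    refine ⟨e.symm w, (e.symm w).2, fun y hy => ?_⟩
    have h1 : α ⟨y, hy⟩ = e.symm w * ⟨y, hy⟩ * (e.symm w)⁻¹ := e.injective (by
      have := DFunLike.congr_fun hw (e ⟨y, hy⟩)
      rw [hβdef, e.symm_apply_apply] at this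
      rw [this, map_mul, map_mul, map_inv, e.apply_symm_apply]
      rfl)
    exact congrArg Subtype.val h1
  exfalso
  obtain ⟨w, hwV, hw⟩ := JankoRee.exists_three (Or.inl hq) V
  -- the image of the Klein group in `H`
  let ι : PG →* H := L.subtype.comp e.symm.toMonoidHom
  have hι : Function.Injective ι := L.subtype_injective.comp e.symm.injective
  set V' := V.map ι with hV'
  let K := normalizer (V' : Set H)
  have hbK : b ∈ K := by
    refine QdFree.ZJControl.mem_normalizer_of_conj fun z hz => ?_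
    obtain ⟨v, hv, rfl⟩ := hz
    exact ⟨β v, hVmem v hv, congrArg Subtype.val (e.symm_apply_apply (α (e.symm v)))⟩
  have hwK : ι w ∈ K := by
    refine QdFree.ZJControl.mem_normalizer_of_conj fun z hz => ?_
    obtain ⟨v, hv, rfl⟩ := hz
    exact ⟨w * v * w⁻¹, hwV v hv, by rw [map_mul, map_mul, map_inv]⟩
  let X := {z : V' // z ≠ 1}
  have hX : Nat.card X = 3 := by
    let _ : Fintype V' := Fintype.ofFinite _
    have h4 : Nat.card V' = 4 := by rw [hV', card_map_of_injective hι]; exact hVk.card_four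
    rw [Nat.card_eq_fintype_card, Fintype.card_subtype_compl, Fintype.card_subtype_eq,
      ← Nat.card_eq_fintype_card, h4]
  let act : K →* MulAut V' := V'.normalizerMonoidHom
  let π : K →* Equiv.Perm X :=
    { toFun := fun z => (act z).toEquiv.subtypeEquiv fun v => not_congr (map_eq_one_iff (act z) (act z).injective).symm
      map_one' := Equiv.ext fun x => Subtype.ext (by simp)
      map_mul' := fun z z' => Equiv.ext fun x => Subtype.ext (by simp) }
  have hπ : ∀ (z : K) (x : X), (((π z x : X) : V') : H) = (z : H) * ((x : V') : H) * (z : H)⁻¹ :=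
    fun z x => rfl
  let toX : ∀ v ∈ V, v ≠ 1 → X := fun v hv h1 =>
    ⟨⟨ι v, mem_map_of_mem ι hv⟩, fun h => h1 (hι ((congrArg Subtype.val h).trans (map_one ι).symm))⟩
  have hXs : ∀ x : X, ∃ v : PG, ∃ hv : v ∈ V, ∃ h1 : v ≠ 1, toX v hv h1 = x := fun ⟨⟨z, v, hv, e'⟩, hz⟩ =>
    ⟨v, hv, fun h => hz (Subtype.ext (e'.symm.trans (by rw [h, map_one]; rfl))), Subtype.ext (Subtype.ext e')⟩
  let R := π.range
  have htrans : MulAction.IsPretransitive R X := ⟨fun x y => by
    obtain ⟨v, hv, hv1, rfl⟩ := hXs x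
    obtain ⟨u, hu, hu1, rfl⟩ := hXs y
    rcases hw v hv hv1 u hu hu1 with rfl | rfl | rfl
    · exact ⟨1, rfl⟩
    · exact ⟨⟨π ⟨ι w, hwK⟩, _, rfl⟩, Subtype.ext (Subtype.ext (by
        show ι w * ι v * (ι w)⁻¹ = ι (w * v * w⁻¹)
        simp))⟩
    · exact ⟨⟨π (⟨ι w, hwK⟩ * ⟨ι w, hwK⟩), _, rfl⟩, Subtype.ext (Subtype.ext (by
        show ι w * ι w * ι v * (ι w * ι w)⁻¹ = ι (w * w * v * (w * w)⁻¹)
        simp [map_mul]))⟩⟩
  have h3 : 3 ∣ Nat.card R := by
    obtain ⟨x⟩ : Nonempty X := (Nat.card_pos_iff.1 (hX ▸ three_pos)).1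
    have e' : (MulAction.stabilizer R x).index = Nat.card X := MulAction.index_stabilizer_of_transitive R x
    exact hX ▸ e' ▸ index_dvd_card _
  have h2 : 2 ∣ Nat.card R := by
    have hne : π ⟨b, hbK⟩ ≠ 1 := by
      push Not at hfix
      obtain ⟨v, hv, hv2⟩ := hfix
      intro h
      have hv1 : v ≠ 1 := fun h1 => hv2 (by rw [h1, map_one])
      have := congrArg (fun x : X => ((x : V') : H)) (Equiv.ext_iff.1 h (toX v hv hv1))
      refine hv2 (hι ?_)
      show ((e.symm (e (α (e.symm v)))) : H) = ι v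
      rw [e.symm_apply_apply]
      exact this
    have hsq : (π ⟨b, hbK⟩) ^ 2 = 1 := by
      rw [← map_pow, show (⟨b, hbK⟩ : K) ^ 2 = 1 from Subtype.ext (by
        rw [SubmonoidClass.coe_pow, pow_two]; exact hb), map_one]
    have := orderOf_dvd_natCard R (show π ⟨b, hbK⟩ ∈ R from ⟨_, rfl⟩)
    rwa [orderOf_eq_prime hsq hne] at this
  have hR : R = ⊤ := by
    refine eq_top_of_le_card _ ?_
    rw [Nat.card_perm, hX]
    exact Nat.le_of_dvd Nat.card_pos (Nat.Coprime.mul_dvd_of_dvd_of_dvd (by norm_num) h2 h3 : 2 * 3 ∣ _)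
  let eX : Equiv.Perm X ≃* Equiv.Perm (Fin 3) := (Finite.equivFinOfCardEq hX).permCongrHom
  refine hfree (QdFree.involves_mk K (eX.toMonoidHom.comp π) ?_)
  rw [MonoidHom.coe_comp]
  exact eX.surjective.comp (MonoidHom.range_eq_top.1 hR)

end Cfsg.Agent.S3Free
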