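import Cfsg.Agent.S3Free.Pack
import Cfsg.Agent.Coprime.Basic

/-!
# The offender bound from packages

`sq_bound` : if every nontrivial elementary abelian 2-subgroup of `G` has a package and `G` is
faithful on the elementary abelian 2-group `M`, then `|M : C_M(A)| ≥ |A| ^ 2` and
`|[M, A]| ≥ |A| ^ 2`.
-/

set_option autoImplicit false

namespace Cfsg.Agent.S3Free

open Subgroup
open Cfsg.Agent.SfFree (cj ea_commute ea_sq)
open scoped commutatorElement

universe u

variable {L : Type u} [Group L] [Finite L]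

theorem comm_of_ea {M : Subgroup L} (hM : Cfsg.IsElementaryAbelian 2 M) {X Y : Subgroup L}
    (hX : X ≤ M) (hY : Y ≤ M) : X ≤ centralizer (Y : Set L) := fun _ hx =>
  mem_centralizer_iff.2 fun _ hy => (ea_commute hM (hY hy) (hX hx)).eq

theorem sq_bound {M G : Subgroup L} (hM : Cfsg.IsElementaryAbelian 2 M)
    (hGM : G ≤ normalizer (M : Set L)) (hf : G ⊓ centralizer (M : Set L) = ⊥)
    (hp : ∀ A ≤ G, Cfsg.IsElementaryAbelian 2 A → A ≠ ⊥ → PackW G (fun x => x ≠ 1) A) :
    ∀ A ≤ G, Cfsg.IsElementaryAbelian 2 A →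
      Nat.card A ^ 2 * Nat.card (M ⊓ centralizer (A : Set L) : Subgroup L) ≤ Nat.card M ∧
      Nat.card A ^ 2 ≤ Nat.card (⁅M, A⁆ : Subgroup L) := by
  intro A
  induction A using WellFoundedLT.induction with
  | _ A ih =>
  intro hAG hA
  rcases eq_or_ne A ⊥ with rfl | hA0
  · refine ⟨?_, ?_⟩
    · rw [Subgroup.card_bot, one_pow, one_mul]
      exact card_le_of_le inf_le_left
    · rw [Subgroup.card_bot, one_pow]
      exact Nat.card_pos
  have h2 := Fact.mk Nat.prime_two
  obtain ⟨A₁, hA1, k, hk, hcard, g, hg, x, hx, hx1, r, hr, hr2, hxr, hcond⟩ := hp A hAG hA hA0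
  have hlt : A₁ < A := lt_of_le_of_ne hA1 fun e => by
    rw [e] at hcard
    have : 2 ≤ 2 ^ k := Nat.le_self_pow hk.ne' 2
    have hpos : 0 < Nat.card A := Nat.card_pos
    nlinarith
  obtain ⟨ih1, ih2⟩ := ih A₁ hlt (hA1.trans hAG) (Thompson.ea_mono hA hA1)
  set A' := cj g A with hA'
  have hgM : g ∈ normalizer (M : Set L) := hGM hg.1
  have hMg : cj g M = M := SfFree.cj_of_mem_normalizer hgM
  have hA'G : A' ≤ G := by
    rintro _ ⟨a, ha, rfl⟩
    exact mul_mem (mul_mem hg.1 (hAG ha)) (inv_mem hg.1)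
  have hA1' : A₁ ≤ A' := (SfFree.cj_of_commute hg.2).ge.trans (SfFree.cj_mono hA1)
  have hxG : x ∈ G := sup_le hAG hA'G hx
  have hxA1 : x ∈ centralizer (A₁ : Set L) := by
    refine (show A ⊔ A' ≤ centralizer (A₁ : Set L) from sup_le ?_ ?_) hx
    · exact fun a ha => mem_centralizer_iff.2 fun b hb => (ea_commute hA (hA1 hb) ha).eq
    · exact fun a ha => mem_centralizer_iff.2 fun b hb =>
        (ea_commute (SfFree.ea_cj hA) (hA1' hb) ha).eq
  have hxM : x ∉ centralizer (M : Set L) := fun h =>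
    hx1 (mem_bot.1 (hf ▸ (⟨hxG, h⟩ : x ∈ G ⊓ centralizer (M : Set L))))
  have hMp : IsPGroup 2 M := Thompson.ea_isPGroup hM
  have hpow : ∀ {X Y : Subgroup L}, X ≤ Y → Y ≤ M → Nat.card Y < 2 ^ (2 * k) * Nat.card X →
      X.relIndex Y ≤ 2 ^ (2 * k - 1) := by
    intro X Y hXY hYM hlt'
    obtain ⟨j, hj⟩ := (hMp.to_le hYM).index (X.subgroupOf Y)
    have hj' : X.relIndex Y = 2 ^ j := hj
    rw [← Coprime.card_mul_relIndex_of_le hXY, hj', mul_comm] at hlt'
    have := (Nat.pow_lt_pow_iff_right Nat.one_lt_two).1 (Nat.lt_of_mul_lt_mul_right hlt')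
    rw [hj']
    exact Nat.pow_le_pow_right two_pos (by omega)
  have hexp : 2 ^ (2 * k - 1) * 2 ^ (2 * k - 1) = 2 ^ (4 * k - 2) := by
    rw [← pow_add]; congr 1; omega
  have hAsq : Nat.card A ^ 2 = 2 ^ (2 * k) * Nat.card A₁ ^ 2 := by
    rw [hcard, mul_pow, ← pow_mul, mul_comm k 2]
  refine ⟨?_, ?_⟩
  · -- fixed points
    set U := M ⊓ centralizer (A₁ : Set L)
    set C := M ⊓ centralizer (A : Set L)
    have hCU : C ≤ U := inf_le_inf_left M (centralizer_le hA1)
    have hbig : 2 ^ (2 * k) * Nat.card C ≤ Nat.card U := by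
      by_contra hsmall
      push Not at hsmall
      have hi := hpow hCU inf_le_left hsmall
      have hgU : cj g U = U := by
        rw [SfFree.cj_inf, SfFree.cj_centralizer, hMg, SfFree.cj_of_commute hg.2]
      have hi' : (cj g C).relIndex U ≤ 2 ^ (2 * k - 1) := by
        conv_lhs => rw [← hgU]
        rw [show (cj g C).relIndex (cj g U) = C.relIndex U from
          relIndex_map_map_of_injective _ _ (MulAut.conj g).injective]
        exact hi
      have hxC : x ∈ centralizer ((C ⊓ cj g C : Subgroup L) : Set L) := by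
        refine (show A ⊔ A' ≤ _ from sup_le ?_ ?_) hx
        · exact (le_centralizer_iff.1 (inf_le_right : C ≤ centralizer (A : Set L))).trans
            (centralizer_le inf_le_left)
        · refine (le_centralizer_iff.1 ?_ : A' ≤ centralizer (cj g C : Set L)).trans
            (centralizer_le inf_le_right)
          rw [hA', ← SfFree.cj_centralizer]
          exact SfFree.cj_mono inf_le_right
      have hxU : x ∈ normalizer (U : Set L) := QdFree.ZJControl.mem_normalizer_of_conj fun u hu =>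
        mem_inf.2 ⟨(mem_normalizer_iff.1 (hGM hxG) u).1 hu.1,
          mul_mem (mul_mem hxA1 hu.2) (inv_mem hxA1)⟩
      have hidx : (C ⊓ cj g C).relIndex U ≤ 2 ^ (4 * k - 2) :=
        relIndex_inf_le.trans ((Nat.mul_le_mul hi hi').trans hexp.le)
      have hxcU := mem_centralizer_of_index hr hr2 (hMp.to_le inf_le_left)
        (inf_le_left.trans hCU) hxU hxC hxr hidx hcond
      exact hxM (QdFree.SquareBound.centralizes_of_fix hM (Thompson.ea_mono hA hA1)
        ((hA1.trans hAG).trans hGM) (coprime_orderOf hr hr2 hxr) hxA1 (hGM hxG) hxcU)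
    calc Nat.card A ^ 2 * Nat.card C = Nat.card A₁ ^ 2 * (2 ^ (2 * k) * Nat.card C) := by
          rw [hAsq]; ring
      _ ≤ Nat.card A₁ ^ 2 * Nat.card U := Nat.mul_le_mul_left _ hbig
      _ ≤ Nat.card M := ih1
  · -- commutators
    set Y := ⁅M, A₁⁆
    set P := ⁅M, A⁆
    set P' := ⁅M, A'⁆
    have hYP : Y ≤ P := commutator_mono le_rfl hA1
    have hPM : P ≤ M := Coprime.commutator_le_of_le_normalizer (hAG.trans hGM)
    have hbig : 2 ^ (2 * k) * Nat.card Y ≤ Nat.card P := by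
      by_contra hsmall
      push Not at hsmall
      have hi := hpow hYP hPM hsmall
      have hP'P : P' = cj g P := by
        show ⁅M, cj g A⁆ = _
        rw [show cj g P = ⁅cj g M, cj g A⁆ from map_commutator _ _ _, hMg]
      have hYP' : Y ≤ P' := commutator_mono le_rfl hA1'
      have hP'M : P' ≤ M := Coprime.commutator_le_of_le_normalizer (hA'G.trans hGM)
      set Z := P ⊔ P'
      have hZM : Z ≤ M := sup_le hPM hP'M
      have hcardP : Nat.card P' = Nat.card P := by rw [hP'P, SfFree.card_cj]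
      have hPi : Nat.card P ≤ 2 ^ (2 * k - 1) * Nat.card Y := SfFree.card_le_mul_of_relIndex hYP hi
      have hZY : Nat.card Z ≤ 2 ^ (4 * k - 2) * Nat.card Y := by
        have e := Thompson.card_sup_mul_card_inf_of_comm (comm_of_ea hM hPM hP'M)
        have h1 : Nat.card Y ≤ Nat.card (P ⊓ P' : Subgroup L) := card_le_of_le (le_inf hYP hYP')
        have h3 : Nat.card Z * Nat.card Y ≤ 2 ^ (4 * k - 2) * Nat.card Y * Nat.card Y := by
          calc Nat.card Z * Nat.card Y ≤ Nat.card Z * Nat.card (P ⊓ P' : Subgroup L) :=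
                Nat.mul_le_mul_left _ h1
            _ = Nat.card P * Nat.card P' := e
            _ ≤ (2 ^ (2 * k - 1) * Nat.card Y) * (2 ^ (2 * k - 1) * Nat.card Y) := by
                rw [hcardP]; exact Nat.mul_le_mul hPi hPi
            _ = _ := by rw [← hexp]; ring
        exact Nat.le_of_mul_le_mul_right h3 Nat.card_pos
      -- `A` and its conjugate act trivially on `M / Z`
      let K : Subgroup L :=
        { carrier := {y | y ∈ normalizer (M : Set L) ∧ y ∈ normalizer (Z : Set L) ∧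
            ∀ m ∈ M, y * m * y⁻¹ * m⁻¹ ∈ Z}
          one_mem' := ⟨one_mem _, one_mem _, fun m _ => by simp⟩
          mul_mem' := fun {a b} ha hb => ⟨mul_mem ha.1 hb.1, mul_mem ha.2.1 hb.2.1, fun m hm => by
            have e : a * b * m * (a * b)⁻¹ * m⁻¹ =
                a * (b * m * b⁻¹ * m⁻¹) * a⁻¹ * (a * m * a⁻¹ * m⁻¹) := by group
            rw [e]
            exact mul_mem ((mem_normalizer_iff.1 ha.2.1 _).1 (hb.2.2 m hm)) (ha.2.2 m hm)⟩
          inv_mem' := fun {a} ha => ⟨inv_mem ha.1, inv_mem ha.2.1, fun m hm => by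
            have e : a⁻¹ * m * a⁻¹⁻¹ * m⁻¹ = a⁻¹ * (a * m * a⁻¹ * m⁻¹)⁻¹ * a⁻¹⁻¹ := by group
            rw [e]
            exact (mem_normalizer_iff.1 (inv_mem ha.2.1) _).1 (inv_mem (ha.2.2 m hm))⟩ }
      have hKof : ∀ B ≤ G, ⁅M, B⁆ ≤ Z → B ≤ K := by
        intro B hBG hBZ b hb
        have hbM : b ∈ normalizer (M : Set L) := hGM (hBG hb)
        have hc : ∀ m ∈ M, b * m * b⁻¹ * m⁻¹ ∈ Z := fun m hm => by
          have := inv_mem (hBZ (commutator_mem_commutator hm hb))
          rwa [commutatorElement_inv, commutatorElement_def] at this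
        refine ⟨hbM, QdFree.ZJControl.mem_normalizer_of_conj fun z hz => ?_, hc⟩
        have := mul_mem (hc z (hZM hz)) hz
        rwa [inv_mul_cancel_right] at this
      have hxK : x ∈ K := sup_le (hKof A hAG le_sup_left) (hKof A' hA'G le_sup_right) hx
      have hxY : x ∈ normalizer (Y : Set L) := by
        refine mem_normalizer_iff_map_conj_eq.2 ?_
        rw [map_commutator, mem_normalizer_iff_map_conj_eq.1 (hGM hxG),
          mem_normalizer_iff_map_conj_eq.1 (centralizer_le_normalizer _ hxA1)]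
      set Zx := Z ⊓ centralizer {x}
      have hxZx : x ∈ normalizer (Zx : Set L) := QdFree.ZJControl.mem_normalizer_of_conj fun z hz => by
        have : x * z * x⁻¹ = z :=
          mul_inv_eq_iff_eq_mul.2 (mem_centralizer_singleton_iff.1 hz.2).symm
        rwa [this]
      set C := Y ⊔ Zx
      have hCZ : C ≤ Z := sup_le (hYP.trans le_sup_left) inf_le_left
      have hCi : C.relIndex Z ≤ 2 ^ (4 * k - 2) := SfFree.relIndex_le_of_card hCZ
        (hZY.trans (Nat.mul_le_mul_left _ (card_le_of_le (le_sup_left : Y ≤ C))))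
      have hxC : x ∈ normalizer (C : Set L) := mem_normalizer_iff_map_conj_eq.2 (by
        rw [Subgroup.map_sup, mem_normalizer_iff_map_conj_eq.1 hxY,
          mem_normalizer_iff_map_conj_eq.1 hxZx])
      have hCeq : C = Z := eq_of_fixed_le hr hr2 (hMp.to_le hZM) hCZ hxK.2.1 hxC le_sup_right hxr hCi
        hcond
      let θ : M →* L := MonoidHom.mk' (fun v => x * v * x⁻¹ * (v : L)⁻¹) fun v w => by
        have hc : Commute (x * w * x⁻¹ * (w : L)⁻¹) (v : L)⁻¹ :=
          ea_commute hM (hZM (hxK.2.2 w w.2)) (inv_mem v.2)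
        calc x * ((v : L) * w) * x⁻¹ * ((v : L) * w)⁻¹
            = x * v * x⁻¹ * ((x * w * x⁻¹ * (w : L)⁻¹) * (v : L)⁻¹) := by group
          _ = x * v * x⁻¹ * ((v : L)⁻¹ * (x * w * x⁻¹ * (w : L)⁻¹)) := by rw [hc.eq]
          _ = _ := by group
      have hθ : ∀ v : M, θ v = x * v * x⁻¹ * (v : L)⁻¹ := fun v => rfl
      have hθZ : ∀ v : M, θ v ∈ Z := fun v => hxK.2.2 v v.2
      set W := θ.range
      have hWM : W ≤ M := by rintro _ ⟨v, rfl⟩; exact hZM (hθZ v)
      -- `θ` is injective on its image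
      have hθinj : Function.Injective (fun w : W => θ ⟨w, hWM w.2⟩) := by
        rintro ⟨w, v, rfl⟩ ⟨w', v', rfl⟩ h
        have h1 : θ ⟨θ (v / v'), hWM ⟨_, rfl⟩⟩ = 1 := by
          have : (⟨θ (v / v'), hWM ⟨_, rfl⟩⟩ : M) = ⟨θ v, hWM ⟨v, rfl⟩⟩ / ⟨θ v', hWM ⟨v', rfl⟩⟩ :=
            Subtype.ext (map_div θ v v')
          rw [this, map_div]
          exact div_eq_one.2 h
        have hc : Commute x ((v / v' : M) : L) := by
          refine QdFree.ZJControl.commute_of_stable (Q := M ⊓ centralizer {x}) (hMp.to_le inf_le_left)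
            (coprime_orderOf hr hr2 hxr) ?_ ⟨hWM ⟨_, rfl⟩, ?_⟩
          · exact mem_centralizer_iff.2 fun y hy => mem_centralizer_singleton_iff.1 hy.2
          · exact mem_centralizer_singleton_iff.2
              (mul_inv_eq_iff_eq_mul.1 (mul_inv_eq_one.1 h1)).symm
        have h2' : θ (v / v') = 1 := by rw [hθ, hc.eq, mul_inv_cancel_right, mul_inv_cancel]
        rw [map_div, div_eq_one] at h2'
        exact Subtype.ext h2'
      have hsurj : ∀ w ∈ W, ∃ w' : W, θ ⟨w', hWM w'.2⟩ = w := by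
        intro w hw
        obtain ⟨w', hw'⟩ := Finite.surjective_of_injective
          (f := fun u : W => (⟨θ ⟨u, hWM u.2⟩, _, rfl⟩ : W))
          (fun u u' h => hθinj (congrArg Subtype.val h)) ⟨w, hw⟩
        exact ⟨w', congrArg Subtype.val hw'⟩
      -- the image lies in its own commutator with `A₁`
      have hWle : W ≤ ⁅W, A₁⁆ := by
        intro w hw
        obtain ⟨⟨z, hzW⟩, rfl⟩ := hsurj w hw
        have hzZ : z ∈ C := by
          rw [hCeq]
          obtain ⟨v, rfl⟩ := hzW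
          exact hθZ v
        obtain ⟨y, hy, c, hc, hyc⟩ := (Coprime.mem_sup_of_le_normalizer
          ((comm_of_ea hM (inf_le_left.trans hZM) (hYP.trans hPM)).trans
            (centralizer_le_normalizer _) : Zx ≤ normalizer (Y : Set L))).1 hzZ
        have hyM : y ∈ M := hPM (hYP hy)
        have hcM : c ∈ M := hZM hc.1
        have e : (⟨z, hWM hzW⟩ : M) = ⟨y, hyM⟩ * ⟨c, hcM⟩ := Subtype.ext hyc.symm
        show θ ⟨z, hWM hzW⟩ ∈ _
        rw [e, map_mul, hθ ⟨c, hcM⟩]
        have hc1 : x * c * x⁻¹ * c⁻¹ = 1 := by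
          rw [(mem_centralizer_singleton_iff.1 hc.2).symm, mul_inv_cancel_right, mul_inv_cancel]
        rw [hc1, mul_one]
        let Kθ : Subgroup L := ((⁅W, A₁⁆).comap θ).map M.subtype
        suffices hle : Y ≤ Kθ by
          obtain ⟨y', hy', e'⟩ := hle hy
          rwa [show (⟨y, hyM⟩ : M) = y' from Subtype.ext e'.symm]
        refine commutator_le.2 fun v hv a ha => ?_
        have hva : ⁅v, a⁆ ∈ M := hPM (commutator_mem_commutator hv (hA1 ha))
        refine ⟨⟨⁅v, a⁆, hva⟩, ?_, rfl⟩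
        show θ ⟨⁅v, a⁆, hva⟩ ∈ ⁅W, A₁⁆
        have hxa : x * a = a * x := (mem_centralizer_iff.1 hxA1 a ha).symm
        have hva' : a * v⁻¹ * a⁻¹ ∈ M := (mem_normalizer_iff.1 (hGM (hAG (hA1 ha))) _).1 (inv_mem hv)
        have e2 : (⟨⁅v, a⁆, hva⟩ : M) = ⟨v, hv⟩ * ⟨a * v⁻¹ * a⁻¹, hva'⟩ :=
          Subtype.ext (by
            show ⁅v, a⁆ = v * (a * v⁻¹ * a⁻¹)
            rw [commutatorElement_def]; group)
        have e3 : θ ⟨a * v⁻¹ * a⁻¹, hva'⟩ = a * (θ ⟨v, hv⟩)⁻¹ * a⁻¹ := by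
          rw [← map_inv θ, hθ, hθ]
          show x * (a * v⁻¹ * a⁻¹) * x⁻¹ * (a * v⁻¹ * a⁻¹)⁻¹ = a * (x * v⁻¹ * x⁻¹ * v⁻¹⁻¹) * a⁻¹
          calc _ = (x * a) * v⁻¹ * (x * a)⁻¹ * (a * v * a⁻¹) := by group
            _ = _ := by rw [hxa]; group
        rw [e2, map_mul, e3]
        have := commutator_mem_commutator (H₁ := W) (H₂ := A₁) (g₁ := θ ⟨v, hv⟩) ⟨_, rfl⟩ ha
        rwa [commutatorElement_def, mul_assoc, mul_assoc, ← mul_assoc a] at this
      have hW : W = ⊥ := by
        by_contra hW0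
        have hA1W : A₁ ≤ normalizer (W : Set L) := by
          intro a ha
          refine QdFree.ZJControl.mem_normalizer_of_conj ?_
          rintro _ ⟨v, rfl⟩
          refine ⟨⟨a * v * a⁻¹, (mem_normalizer_iff.1 (hGM (hAG (hA1 ha))) _).1 v.2⟩, ?_⟩
          rw [hθ, hθ]
          show x * (a * v * a⁻¹) * x⁻¹ * (a * v * a⁻¹)⁻¹ = a * (x * v * x⁻¹ * (v : L)⁻¹) * a⁻¹
          calc _ = (x * a) * v * (x * a)⁻¹ * (a * (v : L)⁻¹ * a⁻¹) := by group
            _ = _ := by rw [(mem_centralizer_iff.1 hxA1 a ha).symm]; group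
        exact (Coprime.commutator_lt_of_isPGroup ((Thompson.ea_isPGroup hA).to_le hA1)
          (hMp.to_le hWM) hA1W hW0).not_ge hWle
      refine hxM (mem_centralizer_iff.2 fun v hv => ?_)
      have h1 : θ ⟨v, hv⟩ = 1 := mem_bot.1 (hW ▸ (⟨_, rfl⟩ : θ ⟨v, hv⟩ ∈ W))
      exact (mul_inv_eq_iff_eq_mul.1 (mul_inv_eq_one.1 h1)).symm
    calc Nat.card A ^ 2 = 2 ^ (2 * k) * Nat.card A₁ ^ 2 := hAsq
      _ ≤ 2 ^ (2 * k) * Nat.card Y := Nat.mul_le_mul_left _ ih2
      _ ≤ Nat.card P := hbig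

end Cfsg.Agent.S3Free
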