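import Cfsg.Agent.S4Free.Basic
import Cfsg.Agent.Core.MinimalNormal
import Cfsg.Agent.Layer.Subnormal
import Cfsg.Prelude.Def_LocalEven
import Cfsg.Prelude.Def_Local

/-!
# Inheritance of the composition-factor hypothesis; minimal normal subgroups
-/

set_option autoImplicit false

namespace Cfsg.Agent.S3Free

open Subgroup

universe u

/-- The composition-factor hypothesis. -/
abbrev CompK (G : Type u) [Group G] : Prop :=
  Cfsg.IsCompositionKGroupWith Cfsg.IsSuzukiOrPSL2OddPowerThree G

theorem k2_of_equiv {X Y : Type u} [Group X] [Group Y] (e : X ≃* Y)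
    (h : Cfsg.IsSuzukiOrPSL2OddPowerThree X) : Cfsg.IsSuzukiOrPSL2OddPowerThree Y := by
  rcases h with ⟨F, i1, i2, m, hm, hF, ⟨f⟩⟩ | ⟨F, i1, i2, n, hF, ⟨f⟩⟩
  · exact Or.inl ⟨F, i1, i2, m, hm, hF, ⟨e.symm.trans f⟩⟩
  · exact Or.inr ⟨F, i1, i2, n, hF, ⟨e.symm.trans f⟩⟩

theorem not_comm_of_equiv {X Y : Type u} [Group X] [Group Y] (e : X ≃* Y)
    (h : ¬ IsMulCommutative Y) : ¬ IsMulCommutative X := fun hX =>
  h ⟨⟨fun a b => e.symm.injective (by rw [map_mul, map_mul]; exact hX.is_comm.comm _ _)⟩⟩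

/-- A simple non-abelian group which is the image of a subnormal subgroup is a listed group. -/
theorem CompK.of_section {G X : Type u} [Group G] [Group X] (hc : CompK G) {M : Subgroup G}
    (hM : M.IsSubnormal) (f : M →* X) (hf : Function.Surjective f) (hs : IsSimpleGroup X)
    (hn : ¬ IsMulCommutative X) : Cfsg.IsSuzukiOrPSL2OddPowerThree X := by
  let e : M ⧸ f.ker ≃* X := QuotientGroup.quotientKerEquivOfSurjective f hf
  exact k2_of_equiv e (hc M hM f.ker (MulEquiv.isSimpleGroup e) (not_comm_of_equiv e hn))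

theorem CompK.of_subnormal {G : Type u} [Group G] (hc : CompK G) {N : Subgroup G}
    (hN : N.IsSubnormal) : CompK N := by
  intro M hM K hK hs hn
  let e := M.equivMapOfInjective N.subtype N.subtype_injective
  exact hc.of_section (hM.trans' hN) ((QuotientGroup.mk' K).comp e.symm.toMonoidHom)
    ((QuotientGroup.mk'_surjective K).comp e.symm.surjective) hs hn

theorem CompK.of_surjective {G Q : Type u} [Group G] [Group Q] (hc : CompK G) (f : G →* Q)
    (hf : Function.Surjective f) : CompK Q := by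
  intro M hM K hK hs hn
  exact hc.of_section (hM.comap f) ((QuotientGroup.mk' K).comp (f.subgroupComap M))
    ((QuotientGroup.mk'_surjective K).comp fun y => by
      obtain ⟨x, hx⟩ := hf y
      exact ⟨⟨x, show f x ∈ M from hx ▸ y.2⟩, Subtype.ext hx⟩) hs hn

variable {G : Type u} [Group G] [Finite G]

/-- A subnormal subgroup inherits a trivial 2-core. -/
theorem pCore_eq_bot_of_subnormal (hO : Cfsg.pCore 2 G = ⊥) {N : Subgroup G}
    (hN : N.IsSubnormal) : Cfsg.pCore 2 N = ⊥ := by
  have := Fact.mk Nat.prime_two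
  have h : (Cfsg.pCore 2 N).map N.subtype ≤ Cfsg.pCore 2 G :=
    Layer.subnormal_le_pCore ((Core.pCore_normal).isSubnormal.trans' hN)
      (Core.pCore_isPGroup.map _)
  rw [hO] at h
  exact (map_eq_bot_iff_of_injective _ N.subtype_injective).1 (le_bot_iff.1 h)

/-- A central subgroup of odd order can be divided out. -/
theorem pCore_quotient_central_eq_bot (hO : Cfsg.pCore 2 G = ⊥) {N : Subgroup G} [N.Normal]
    (hc : N ≤ center G) : Cfsg.pCore 2 (G ⧸ N) = ⊥ := by
  have := Fact.mk Nat.prime_two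
  set T := (Cfsg.pCore 2 (G ⧸ N)).comap (QuotientGroup.mk' N)
  have : (Cfsg.pCore 2 (G ⧸ N)).Normal := Core.pCore_normal
  have : T.Normal := inferInstance
  obtain ⟨P⟩ := (inferInstance : Nonempty (Sylow 2 T))
  let π : T →* Cfsg.pCore 2 (G ⧸ N) := (QuotientGroup.mk' N).subgroupComap (Cfsg.pCore 2 (G ⧸ N))
  have hπ : Function.Surjective π := fun y => by
    obtain ⟨x, hx⟩ := QuotientGroup.mk'_surjective N y
    exact ⟨⟨x, show QuotientGroup.mk' N x ∈ _ from hx ▸ y.2⟩, Subtype.ext hx⟩
  have htop : (P : Subgroup T).map π = ⊤ :=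
    ((P.mapSurjective hπ).3 (Core.pCore_isPGroup.to_subgroup ⊤) le_top).symm.trans rfl
  have hPn : (P : Subgroup T).Normal := by
    refine ⟨fun y hy t => ?_⟩
    obtain ⟨p, hp, hpt⟩ : π t ∈ (P : Subgroup T).map π := htop ▸ mem_top _
    have hn : ((t : G) * (p : G)⁻¹) ∈ center G := hc ((QuotientGroup.eq_one_iff _).1 (by
      have := congrArg Subtype.val hpt
      rw [QuotientGroup.mk_mul, QuotientGroup.mk_inv, mul_inv_eq_one]
      exact this.symm))
    have e : t * y * t⁻¹ = p * y * p⁻¹ := Subtype.ext (by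
      push_cast
      calc (t : G) * y * (t : G)⁻¹
          = ((t : G) * (p : G)⁻¹) * ((p : G) * y * (p : G)⁻¹) * ((t : G) * (p : G)⁻¹)⁻¹ := by group
        _ = _ := by rw [← mem_center_iff.1 hn _, mul_inv_cancel_right])
    rw [e]
    exact mul_mem (mul_mem hp hy) (inv_mem hp)
  have : (P : Subgroup T).Characteristic := Sylow.characteristic_of_normal P hPn
  have hPb : (P : Subgroup T).map T.subtype = ⊥ := by
    rw [← le_bot_iff, ← hO]
    exact Core.le_pCore (P.2.map _)
  rw [(map_eq_bot_iff_of_injective _ T.subtype_injective).1 hPb, Subgroup.map_bot] at htop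
  rw [← Subgroup.card_eq_one, ← Subgroup.card_top (G := Cfsg.pCore 2 (G ⧸ N)), ← htop,
    Subgroup.card_bot]

/-- The conjugates of a minimal normal subgroup `L` of `N` either commute with it or are equal. -/
structure Comp (N L : Subgroup G) : Prop where
  le : L ≤ N
  norm : N ≤ normalizer (L : Set G)
  simple : IsSimpleGroup L
  not_comm : ¬ IsMulCommutative L
  subnormal : L.IsSubnormal
  pair : ∀ g : G, SfFree.cj g L = L ∨
    (SfFree.cj g L ≤ centralizer (L : Set G) ∧ SfFree.cj g L ⊓ L = ⊥)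
  gen : (⨆ g : G, SfFree.cj g L) = N

/-- A non-solvable minimal normal subgroup is generated by conjugates of a simple subgroup. -/
theorem exists_comp {N : Subgroup G} (hN : Core.IsMinNormal N) (hns : ¬ Group.IsSolvable N) :
    ∃ L : Subgroup G, Comp N L := by
  have hNn := hN.normal
  obtain ⟨L, ⟨hLN, hLn, hL1⟩, hmin⟩ := (Set.toFinite {L : Subgroup G | L ≤ N ∧
    N ≤ normalizer (L : Set G) ∧ L ≠ ⊥}).exists_minimal ⟨N, le_rfl, le_normalizer, hN.ne_bot⟩
  have hcjN : ∀ g : G, SfFree.cj g N = N := fun g =>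
    SfFree.cj_of_mem_normalizer (by rw [normalizer_eq_top_iff.2 hNn]; exact mem_top g)
  have hle : ∀ g : G, SfFree.cj g L ≤ N := fun g => hcjN g ▸ SfFree.cj_mono hLN
  have hnorm : ∀ g : G, N ≤ normalizer (SfFree.cj g L : Set G) := by
    intro g n hn
    rw [← hcjN g] at hn
    obtain ⟨z, hz, rfl⟩ := hn
    exact le_normalizer_map _ ⟨z, hLn hz, rfl⟩
  have hpair : ∀ g : G, SfFree.cj g L = L ∨
      (SfFree.cj g L ≤ centralizer (L : Set G) ∧ SfFree.cj g L ⊓ L = ⊥) := by
    intro g
    have hI : N ≤ normalizer ((SfFree.cj g L ⊓ L : Subgroup G) : Set G) :=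
      (le_inf (hnorm g) hLn).trans inf_normalizer_le_normalizer_inf
    by_cases hb : SfFree.cj g L ⊓ L = ⊥
    · refine Or.inr ⟨fun x hx => mem_centralizer_iff.2 fun y hy => ?_, hb⟩
      have h1 : y * x * y⁻¹ * x⁻¹ ∈ SfFree.cj g L ⊓ L := by
        refine mem_inf.2 ⟨mul_mem ((mem_normalizer_iff.1 (hnorm g (hLN hy)) x).1 hx) (inv_mem hx), ?_⟩
        rw [mul_assoc, mul_assoc]
        refine mul_mem hy ?_
        rw [← mul_assoc]
        exact (mem_normalizer_iff.1 (hLn (hle g hx)) _).1 (inv_mem hy)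
      rw [hb, mem_bot, mul_inv_eq_one] at h1
      exact mul_inv_eq_iff_eq_mul.1 h1
    · have h1 : L ≤ SfFree.cj g L :=
        (hmin ⟨inf_le_right.trans hLN, hI, hb⟩ inf_le_right).trans inf_le_left
      exact Or.inl (eq_of_le_of_card_ge h1 (SfFree.card_cj g L).le).symm
  set S := ⨆ g : G, SfFree.cj g L with hSdef
  have hgen : S = N := by
    have hSn : S.Normal := normalizer_eq_top_iff.1 (eq_top_iff.2 fun h _ =>
      mem_normalizer_iff_map_conj_eq.2 (le_antisymm (by
        rw [hSdef, Subgroup.map_iSup]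
        exact iSup_le fun g => by
          show SfFree.cj h (SfFree.cj g L) ≤ _
          rw [SfFree.cj_cj]
          exact le_iSup (fun g => SfFree.cj g L) (h * g)) (by
        rw [hSdef, Subgroup.map_iSup]
        refine iSup_le fun g => le_trans ?_ (le_iSup _ (h⁻¹ * g))
        show _ ≤ SfFree.cj h (SfFree.cj (h⁻¹ * g) L)
        rw [SfFree.cj_cj, mul_inv_cancel_left])))
    refine (hN.eq_of_le S hSn (iSup_le hle)).resolve_left fun h => hL1 ?_
    rw [← le_bot_iff, ← h, ← SfFree.cj_one L]
    exact le_iSup (fun g => SfFree.cj g L) 1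
  have hnc : ¬ IsMulCommutative L := by
    intro hc
    have hcomm : IsMulCommutative N := by
      rw [← le_centralizer_iff_isMulCommutative, ← hgen]
      refine iSup_le fun g => le_centralizer_iff.1 (iSup_le fun g' => le_centralizer_iff.1 ?_)
      have : SfFree.cj g L = SfFree.cj g' (SfFree.cj (g'⁻¹ * g) L) := by
        rw [SfFree.cj_cj, mul_inv_cancel_left]
      rw [this, ← SfFree.cj_centralizer]
      refine SfFree.cj_mono ?_
      rcases hpair (g'⁻¹ * g) with h | h
      · rw [h]; exact le_centralizer_iff_isMulCommutative.2 hc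
      · exact h.1
    exact hns (Group.isSolvable_of_comm fun x y => hcomm.is_comm.comm x y)
  have : Nontrivial L := (nontrivial_iff_ne_bot L).2 hL1
  refine ⟨L, hLN, hLn, ⟨fun K hK => ?_⟩, hnc, ?_, hpair, hgen⟩
  · by_cases hb : K = ⊥
    · exact Or.inl hb
    refine Or.inr ?_
    have hK' : N ≤ normalizer (K.map L.subtype : Set G) := by
      rw [← hgen]
      refine iSup_le fun g => ?_
      rcases hpair g with h | h
      · rw [h]
        exact le_normalizer_map L.subtype |>.trans' (by
          rw [normalizer_eq_top_iff.2 hK, ← MonoidHom.range_eq_map, range_subtype])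
      · exact h.1.trans ((centralizer_le (map_subtype_le K)).trans (centralizer_le_normalizer _))
    have hLe := hmin ⟨(map_subtype_le K).trans hLN, hK', fun e => hb
      ((map_eq_bot_iff_of_injective _ L.subtype_injective).1 e)⟩ (map_subtype_le K)
    refine eq_top_iff.2 fun x _ => ?_
    obtain ⟨y, hy, e⟩ := hLe x.2
    rwa [← show y = x from Subtype.ext e]
  · exact Subgroup.IsSubnormal.step L N hLN hNn.isSubnormal (normal_subgroupOf_of_le_normalizer hLn)

end Cfsg.Agent.S3Free
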