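import Cfsg.Agent.S3Free.Pack
import Cfsg.Agent.Suzuki.Tori3
import Cfsg.Agent.Suzuki.Aut
import Cfsg.Agent.Suzuki.Fusion
import Cfsg.Agent.LocalStructure.Zsigmondy

/-!
# The Suzuki groups
-/

set_option autoImplicit false

namespace Cfsg.Agent.S3Free

open Subgroup
open Cfsg.Agent.SfFree (cj ea_commute ea_sq)
open Cfsg.Agent.RankOne.Ovoid Cfsg.Agent.Suzuki MulAction

universe u

variable {F : Type u} [Field F] [Fintype F] {m : ℕ}

/-- Automorphisms of order two are inner. -/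
theorem sz_inner (hm : 1 ≤ m) (hF : Fintype.card F = 2 ^ (2 * m + 1))
    (β : MulAut (Cfsg.Sz F m)) (hβ : β * β = 1) : ∃ g, β = MulAut.conj g := by
  have hz : (QuotientGroup.mk β : Cfsg.Out (Cfsg.Sz F m)) = 1 := by
    rw [← orderOf_eq_one_iff]
    refine Nat.eq_one_of_dvd_coprimes ?_ (orderOf_dvd_of_pow_eq_one (n := 2) ?_)
      (card_out hm hF ▸ _root_.orderOf_dvd_natCard _)
    · exact Nat.coprime_two_left.2 ⟨m, rfl⟩
    · rw [pow_two, ← QuotientGroup.mk_mul, hβ, QuotientGroup.mk_one]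
  obtain ⟨g, hg⟩ := (QuotientGroup.eq_one_iff _).1 hz
  exact ⟨g, hg.symm⟩

/-- An elementary abelian 2-subgroup is conjugate into the involutions of `U`. -/
theorem sz_ea_conj (hm : 1 ≤ m) (hF : Fintype.card F = 2 ^ (2 * m + 1))
    {E : Subgroup (Cfsg.Sz F m)} (hE : Cfsg.IsElementaryAbelian 2 E) :
    ∃ k : Cfsg.Sz F m, ∀ x ∈ E, ∃ b : F, k * x * k⁻¹ = T (good_of_card (m := m) hF) 0 b := by
  obtain ⟨P, hP⟩ := (Thompson.ea_isPGroup hE).exists_le_sylow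
  obtain ⟨k, hk⟩ := exists_conj_U (good_of_card (m := m) hF) hm hF P
  refine ⟨k, fun x hx => ?_⟩
  obtain ⟨a, b, hab⟩ := (hk x).1 (hP hx)
  refine ⟨b, ?_⟩
  have h2 : T (good_of_card (m := m) hF) a b * T (good_of_card (m := m) hF) a b = 1 := by
    rw [← hab, show k * x * k⁻¹ * (k * x * k⁻¹) = k * (x * x) * k⁻¹ by group, ea_sq hE hx,
      mul_one, mul_inv_cancel]
  rw [hab, fst_eq_zero _ h2]

theorem sz_card_ea_le (hm : 1 ≤ m) (hF : Fintype.card F = 2 ^ (2 * m + 1))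
    {E : Subgroup (Cfsg.Sz F m)} (hE : Cfsg.IsElementaryAbelian 2 E) :
    Nat.card E ≤ 2 ^ (2 * m + 1) := by
  obtain ⟨k, hk⟩ := sz_ea_conj hm hF hE
  choose b hb using fun x : E => hk x x.2
  rw [← hF, ← Nat.card_eq_fintype_card]
  refine Nat.card_le_card_of_injective b fun x y h => Subtype.ext ?_
  have := (hb x).trans ((congrArg _ h).trans (hb y).symm)
  exact mul_left_cancel (mul_right_cancel this)

/-- All involutions are conjugate. -/
theorem sz_invol_conj (hm : 1 ≤ m) (hF : Fintype.card F = 2 ^ (2 * m + 1)) {x : Cfsg.Sz F m}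
    (hx : x * x = 1) (hx1 : x ≠ 1) :
    ∃ k : Cfsg.Sz F m, k * x * k⁻¹ = T (good_of_card (m := m) hF) 0 1 := by
  have hG := good_of_card (m := m) hF
  obtain ⟨k, hk⟩ := sz_ea_conj hm hF (Thompson.ea_zpowers (p := 2) (by rw [pow_two]; exact hx))
  obtain ⟨b, hb⟩ := hk x (mem_zpowers x)
  have hb0 : b ≠ 0 := by
    rintro rfl
    rw [T_zero] at hb
    exact hx1 (conj_eq_one_iff.1 hb)
  let σ : Fˣ →* Fˣ := powMonoidHom (2 ^ (m + 1))
  have hσ : Function.Injective σ := (injective_iff_map_eq_one σ).2 fun c hc =>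
    sigma_eq_one hG (by have := congrArg Units.val hc; simpa [σ] using this)
  obtain ⟨c, hc⟩ := Finite.surjective_of_injective hσ (Units.mk0 b hb0)⁻¹
  have hcb : (c : F) ^ (2 ^ (m + 1)) * b = 1 := by
    have := congrArg Units.val hc
    simp only [σ, powMonoidHom_apply, Units.val_pow_eq_pow_val, Units.val_inv_eq_inv_val,
      Units.val_mk0] at this
    rw [this, inv_mul_cancel₀ hb0]
  refine ⟨H hG c * k, ?_⟩
  rw [show H hG c * k * x * (H hG c * k)⁻¹ = H hG c * (k * x * k⁻¹) * (H hG c)⁻¹ by group, hb,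
    H_conj_T, mul_inv_cancel_right, mul_zero, hcb]

/-- Packages exist for all nontrivial elementary abelian 2-subgroups. -/
theorem sz_pack (hm : 1 ≤ m) (hF : Fintype.card F = 2 ^ (2 * m + 1))
    (E : Subgroup (Cfsg.Sz F m)) (hE : Cfsg.IsElementaryAbelian 2 E) (hE1 : E ≠ ⊥) : Pack E := by
  have h2 := Fact.mk Nat.prime_two
  set f := 2 * m + 1 with hf
  obtain ⟨k, hk⟩ := IsPGroup.iff_card.1 (Thompson.ea_isPGroup hE)
  have hkf : k ≤ f := (Nat.pow_le_pow_iff_right Nat.one_lt_two).1 (hk ▸ sz_card_ea_le hm hF hE)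
  have hk0 : 0 < k := Nat.pos_of_ne_zero fun h => hE1 (card_eq_one.1 (by rw [hk, h, pow_zero]))
  obtain ⟨r, hr, hrd, hrp⟩ := LocalStructure.zsigmondy (a := 2) (n := 4 * f) one_lt_two
    (by omega) (fun h => by omega) (fun h => by omega)
  have hq : Nat.card F = 2 ^ f := by rw [Nat.card_eq_fintype_card, hF]
  have hr2 : r ≠ 2 := by
    rintro rfl
    have h1 : 2 ∣ 2 ^ (4 * f) := dvd_pow_self 2 (by omega)
    have h3 : 1 ≤ 2 ^ (4 * f) := Nat.one_le_two_pow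
    omega
  have hrq : r ∣ Nat.card F ^ 2 + 1 := by
    have e : 2 ^ (4 * f) - 1 = (Nat.card F ^ 2 + 1) * (2 ^ (2 * f) - 1) := by
      rw [hq, ← pow_mul, mul_comm f 2, ← one_pow 2, show 4 * f = 2 * f * 2 by ring, pow_mul,
        Nat.sq_sub_sq, one_pow]
    exact (hr.dvd_mul.1 (e ▸ hrd)).resolve_right (hrp (2 * f) (by omega) (by omega))
  have := Fact.mk hr
  obtain ⟨x, hxo⟩ := exists_prime_orderOf_dvd_card' (G := Cfsg.Sz F m) r (by
    rw [card_sz hm hF]; exact hrq.mul_left _)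
  have hfpf : Fpf x := fpf_of_prime_dvd hm hF hr hxo.symm.dvd hrq
  -- an involution inverting `x`
  obtain ⟨g', h', -, -, -, -, -, hN⟩ := torus_structure hm hF
  have hN4 := hN x hfpf
  set C := centralizer {x}
  obtain ⟨t, ht⟩ := exists_prime_orderOf_dvd_card' (G := normalizer (C : Set (Cfsg.Sz F m))) 2
    (by rw [hN4]; exact ⟨2 * Nat.card C, by ring⟩)
  have htt : (t : Cfsg.Sz F m) * t = 1 := by
    have := congrArg Subtype.val (pow_orderOf_eq_one t)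
    rwa [ht, pow_two] at this
  have ht1 : (t : Cfsg.Sz F m) ≠ 1 := fun h => by
    rw [show t = 1 from Subtype.ext h, orderOf_one] at ht
    omega
  have hodd : Odd (Nat.card C) := by
    rcases torus_card_cases hm hF hfpf with h | h <;> rw [h] <;> rw [pow_succ 2 m, pow_succ 2 (2 * m)]
    · obtain ⟨d, hd⟩ := Nat.exists_eq_add_of_le
        (Nat.pow_le_pow_right two_pos (by omega : m ≤ 2 * m))
      exact ⟨d, by omega⟩
    · exact ⟨2 ^ (2 * m) + 2 ^ m, by ring⟩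
  have hx1 : x ≠ 1 := ne_one_of_fpf hm hF hfpf
  have hxC : x ∈ C := mem_centralizer_singleton_iff.2 rfl
  have htC : ∀ u ∈ C, u ≠ 1 → (t : Cfsg.Sz F m) * u * (t : Cfsg.Sz F m)⁻¹ ≠ u := by
    intro u hu hu1 hcm
    have h1 : (t : Cfsg.Sz F m) ∈ C := (centralizer_eq hm hF hfpf hu hu1).le
      (mem_centralizer_singleton_iff.2 (mul_inv_eq_iff_eq_mul.1 hcm))
    have h3 : orderOf (t : Cfsg.Sz F m) ∣ Nat.card C := orderOf_dvd_natCard C h1
    rw [Subgroup.orderOf_coe, ht] at h3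
    exact (Nat.not_even_iff_odd.2 hodd) (even_iff_two_dvd.2 h3)
  have hinv : (t : Cfsg.Sz F m) * x * (t : Cfsg.Sz F m)⁻¹ = x⁻¹ := by
    have hmem : (t : Cfsg.Sz F m) * x * (t : Cfsg.Sz F m)⁻¹ ∈ C := (mem_normalizer_iff.1 t.2 x).1 hxC
    by_contra hne
    refine htC (((t : Cfsg.Sz F m) * x * (t : Cfsg.Sz F m)⁻¹) * x) (mul_mem hmem hxC)
      (fun h => hne (eq_inv_of_mul_eq_one_left h)) ?_
    calc (t : Cfsg.Sz F m) * ((t : Cfsg.Sz F m) * x * (t : Cfsg.Sz F m)⁻¹ * x) * (t : Cfsg.Sz F m)⁻¹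
        = (t * t : Cfsg.Sz F m) * x * (t * t : Cfsg.Sz F m)⁻¹ *
            ((t : Cfsg.Sz F m) * x * (t : Cfsg.Sz F m)⁻¹) := by group
      _ = x * ((t : Cfsg.Sz F m) * x * (t : Cfsg.Sz F m)⁻¹) := by rw [htt]; simp
      _ = _ := centralizer_comm hm hF hfpf hxC hmem
  obtain ⟨b, hbE, hb1⟩ := (bot_or_exists_ne_one E).resolve_left hE1
  obtain ⟨k₁, hk₁⟩ := sz_invol_conj hm hF (ea_sq hE hbE) hb1
  obtain ⟨k₂, hk₂⟩ := sz_invol_conj hm hF htt ht1
  set c := k₁⁻¹ * k₂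
  have hcb : c * (t : Cfsg.Sz F m) * c⁻¹ = b := by
    calc c * (t : Cfsg.Sz F m) * c⁻¹
        = k₁⁻¹ * (k₂ * (t : Cfsg.Sz F m) * k₂⁻¹) * k₁ := by simp only [c]; group
      _ = b := by rw [hk₂, ← hk₁]; group
  set y := c * x * c⁻¹
  have hyb : b * y * b⁻¹ = y⁻¹ := by
    rw [← hcb]
    calc _ = c * ((t : Cfsg.Sz F m) * x * (t : Cfsg.Sz F m)⁻¹) * c⁻¹ := by simp only [y]; group
      _ = _ := by rw [hinv]; simp only [y]; group
  have hbinv : b⁻¹ = b := inv_eq_of_mul_eq_one_left (ea_sq hE hbE)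
  have he : b * (y * b * y⁻¹) = y⁻¹ * y⁻¹ := by
    calc b * (y * b * y⁻¹) = b * y * b⁻¹ * y⁻¹ := by rw [hbinv]; group
      _ = _ := by rw [hyb]
  have hyo : orderOf y = r := by
    rw [show y = MulAut.conj c x from rfl, MulEquiv.orderOf_eq, hxo]
  refine ⟨⊥, bot_le, k, hk0, by rw [Subgroup.card_bot, mul_one, hk], y,
    ⟨mem_top _, mem_centralizer_iff.2 fun z hz => by rw [mem_bot.1 hz, one_mul, mul_one]⟩,
    y⁻¹ * y⁻¹, he ▸ mul_mem (mem_sup_left hbE) (mem_sup_right (mem_map_of_mem _ hbE)), ?_, r, hr, hr2,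
    ⟨1, by rw [pow_one, ← hyo, ← pow_two, ← pow_mul, mul_comm, pow_mul, inv_pow, pow_orderOf_eq_one,
      inv_one, one_pow]⟩, fun j hj1 hj2 => hrp j hj1 (by omega)⟩
  intro h
  have h' : y ^ 2 = 1 := by rw [pow_two, ← inv_eq_one, mul_inv_rev, h]
  exact hr2 ((Nat.prime_dvd_prime_iff_eq hr Nat.prime_two).1 (hyo ▸ orderOf_dvd_of_pow_eq_one h'))

end Cfsg.Agent.S3Free
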