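import Cfsg.Agent.S3Free.Action
import Cfsg.Agent.S3Free.Comp
import Cfsg.Agent.S3Free.Suzuki
import Cfsg.Agent.S3Free.PSL
import Cfsg.Agent.Thompson.Offender.Orbit

/-!
# Every elementary abelian 2-group has a package

`exists_pack` : `O₂(H) = 1`, no section `S₃`, all non-abelian composition factors `Sz(q)` or
`PSL(2, 3 ^ odd)`.
-/

set_option autoImplicit false

namespace Cfsg.Agent.S3Free

open Subgroup
open Cfsg.Agent.SfFree (cj mem_cj cj_cj ea_commute ea_sq)

universe u

variable {H : Type u} [Group H] [Finite H]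

theorem pack_of_equiv {X Y : Type*} [Group X] [Group Y] (e : X ≃* Y)
    (h : ∀ E : Subgroup Y, Cfsg.IsElementaryAbelian 2 E → E ≠ ⊥ → Pack E)
    (E : Subgroup X) (hE : Cfsg.IsElementaryAbelian 2 E) (hE1 : E ≠ ⊥) : Pack E := by
  have h' := (h (E.map e.toMonoidHom) (Thompson.ea_map hE _) fun h0 => hE1
    ((map_eq_bot_iff_of_injective _ e.injective).1 h0)).map (ι := e.symm.toMonoidHom) e.symm.injective
    (P' := fun x => x ≠ 1) fun x hx h1 => hx (e.symm.injective (h1.trans (map_one e.symm).symm))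
  rw [Subgroup.map_map, show e.symm.toMonoidHom.comp e.toMonoidHom = MonoidHom.id X from
    MonoidHom.ext e.symm_apply_apply, Subgroup.map_id] at h'
  exact h'.mono le_top fun _ hx => hx

/-- A single simple subgroup. -/
theorem act_simple (hfree : ¬ Cfsg.Involves (Equiv.Perm (Fin 3)) H) (hc : CompK H) {L B : Subgroup H}
    (hs : IsSimpleGroup L) (hn : ¬ IsMulCommutative L) (hsub : L.IsSubnormal)
    (hB : Cfsg.IsElementaryAbelian 2 B) (hBL : B ≤ normalizer (L : Set H))
    (hne : ¬ B ≤ centralizer (L : Set H)) : Act L B := by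
  have h3 : NoThree L := noThree_of_not_involves fun h => hfree (QdFree.involves_of_subgroup h)
  rcases hc.of_section hsub (MonoidHom.id L) Function.surjective_id hs hn with
    ⟨F, iF, iFi, m, hm, hF, ⟨e₀⟩⟩ | ⟨F, iF, iFi, n, hF, ⟨e⟩⟩
  · obtain ⟨e₁⟩ := Suzuki.nonempty_equiv (F := F) hm hF
    let e₂ : L ≃* Cfsg.Sz F m := e₀.trans e₁.symm
    refine act_of_inner hs hn hB hBL hne (fun b hb => ?_) fun E hE hE1 => ?_
    · let α : MulAut L := L.normalizerMonoidHom ⟨b, hBL hb⟩
      have hα2 : α * α = 1 := MulEquiv.ext fun y => Subtype.ext (by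
        show b * (b * (y : H) * b⁻¹) * b⁻¹ = y
        rw [show b * (b * (y : H) * b⁻¹) * b⁻¹ = (b * b) * y * (b * b)⁻¹ by group, ea_sq hB hb]
        simp)
      obtain ⟨w, hw⟩ := sz_inner hm hF (MulAut.congr e₂ α) (by rw [← map_mul, hα2, map_one])
      refine ⟨e₂.symm w, (e₂.symm w).2, fun y hy => congrArg Subtype.val
        (show α ⟨y, hy⟩ = e₂.symm w * ⟨y, hy⟩ * (e₂.symm w)⁻¹ from e₂.injective ?_)⟩
      have := DFunLike.congr_fun hw (e₂ ⟨y, hy⟩)
      rw [map_mul, map_mul, map_inv, e₂.apply_symm_apply]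
      rw [show MulAut.congr e₂ α (e₂ ⟨y, hy⟩) = e₂ (α (e₂.symm (e₂ ⟨y, hy⟩))) from rfl,
        e₂.symm_apply_apply] at this
      exact this
    · exact pack_of_equiv e₂ (sz_pack hm hF) E hE hE1
  · have hq : Fintype.card F % 8 = 3 := by
      rw [hF]
      clear hF e
      induction n with
      | zero => rfl
      | succ n ih =>
        rw [show 2 * (n + 1) + 1 = (2 * n + 1) + 2 by ring, pow_add, Nat.mul_mod, ih]
        norm_num
    have hsP : IsSimpleGroup (Matrix.ProjectiveSpecialLinearGroup (Fin 2) F) :=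
      MulEquiv.isSimpleGroup e.symm
    refine act_of_inner hs hn hB hBL hne (fun b hb => psl_inner hfree hq e (hBL hb) (ea_sq hB hb))
      fun E hE hE1 => ?_
    have h3' : NoThree (Matrix.ProjectiveSpecialLinearGroup (Fin 2) F) := fun a q ha hq' h =>
      h3 (e.symm a) (e.symm q) (by rw [← map_mul, ha, map_one]) (by rw [MulEquiv.orderOf_eq, hq'])
        (by rw [← map_inv, ← map_mul, ← map_mul, h, map_inv])
    exact pack_of_equiv e (psl_pack hq hsP h3') E hE hE1

omit [Finite H] in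
theorem Comp.conj {N L : Subgroup H} [hN : N.Normal] (h : Comp N L) (c : H) : Comp N (cj c L) := by
  have hcN : cj c N = N :=
    SfFree.cj_of_mem_normalizer (by rw [normalizer_eq_top_iff.2 hN]; exact mem_top c)
  let e := L.equivMapOfInjective (MulAut.conj c).toMonoidHom (MulAut.conj c).injective
  refine ⟨hcN ▸ SfFree.cj_mono h.le, ?_, @MulEquiv.isSimpleGroup _ _ _ _ h.simple e.symm,
    not_comm_of_equiv e.symm h.not_comm,
    h.subnormal.map (MulAut.conj c).surjective, fun g => ?_, ?_⟩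
  · intro n hn
    rw [← hcN] at hn
    obtain ⟨z, hz, rfl⟩ := hn
    exact le_normalizer_map _ ⟨z, h.norm hz, rfl⟩
  · rcases h.pair (c⁻¹ * g * c) with h' | h'
    · refine Or.inl ?_
      rw [cj_cj, show g * c = c * (c⁻¹ * g * c) by group, ← cj_cj, h']
    · refine Or.inr ⟨?_, ?_⟩
      · rw [cj_cj, show g * c = c * (c⁻¹ * g * c) by group, ← cj_cj, ← SfFree.cj_centralizer]
        exact SfFree.cj_mono h'.1
      · rw [cj_cj, show g * c = c * (c⁻¹ * g * c) by group, ← cj_cj, ← SfFree.cj_inf, h'.2]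
        exact Subgroup.map_bot _
  · conv_rhs => rw [← h.gen]
    refine le_antisymm (iSup_le fun g => ?_) (iSup_le fun g => ?_)
    · rw [cj_cj]; exact le_iSup (fun g => cj g L) (g * c)
    · refine le_trans ?_ (le_iSup _ (g * c⁻¹))
      show _ ≤ cj (g * c⁻¹) (cj c L)
      rw [cj_cj, inv_mul_cancel_right]

omit [Finite H] in
theorem exists_complement_ea [Finite H] {A B : Subgroup H} (hA : Cfsg.IsElementaryAbelian 2 A)
    (hBA : B ≤ A) : ∃ D ≤ A, D ⊓ B = ⊥ ∧ D ⊔ B = A := by
  obtain ⟨D, ⟨hDA, hDB⟩, hmax⟩ := (Set.toFinite {D : Subgroup H | D ≤ A ∧ D ⊓ B = ⊥}).exists_maximal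
    ⟨⊥, bot_le, bot_inf_eq _⟩
  refine ⟨D, hDA, hDB, le_antisymm (sup_le hDA hBA) fun a ha => ?_⟩
  by_contra hna
  refine hna (mem_sup_left (hmax ⟨sup_le hDA (zpowers_le.2 ha), ?_⟩ le_sup_left
    (mem_sup_right (mem_zpowers a))))
  have hle : zpowers a ≤ normalizer (D : Set H) := (zpowers_le.2 (mem_centralizer_iff.2 fun d hd =>
    (ea_commute hA (hDA hd) ha).eq)).trans (centralizer_le_normalizer _)
  refine eq_bot_iff.2 fun z hz => ?_
  obtain ⟨d, hd, y, hy, rfl⟩ := (Coprime.mem_sup_of_le_normalizer hle).1 hz.1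
  obtain ⟨i, rfl⟩ := mem_zpowers_iff.1 hy
  have h2 : a ^ 2 = 1 := hA.2 a ha
  rcases Int.even_or_odd' i with ⟨j, rfl | rfl⟩
  · rw [zpow_mul, zpow_ofNat, h2, one_zpow, mul_one] at hz ⊢
    exact hDB.le ⟨hd, hz.2⟩
  · rw [zpow_add, zpow_mul, zpow_ofNat, h2, one_zpow, one_mul, zpow_one] at hz
    refine absurd ?_ hna
    have : d⁻¹ * (d * a) ∈ D ⊔ B := mul_mem (mem_sup_left (inv_mem hd)) (mem_sup_right hz.2)
    rwa [inv_mul_cancel_left] at this

/-- A minimal normal non-solvable subgroup with a component not centralised. -/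
theorem pack_of_comp (hO : Cfsg.pCore 2 H = ⊥) (hfree : ¬ Cfsg.Involves (Equiv.Perm (Fin 3)) H)
    (hc : CompK H) {N L A : Subgroup H} (hL : Comp N L) (hA : Cfsg.IsElementaryAbelian 2 A)
    (hne : ¬ A ≤ centralizer (L : Set H)) : Pack A := by
  have h3 := noThree_of_not_involves hfree
  set B := A ⊓ normalizer (L : Set H) with hBdef
  have hBA : B ≤ A := inf_le_left
  by_cases hBc : B ≤ centralizer (L : Set H)
  · -- `B` centralises `L`
    obtain ⟨a₀, ha₀, ha₀L⟩ : ∃ a ∈ A, a ∉ normalizer (L : Set H) := by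
      by_contra hno
      push Not at hno
      exact hne ((le_inf le_rfl hno).trans hBc)
    have h2 := Fact.mk Nat.prime_two
    obtain ⟨p, hp, hp2, hpd⟩ : ∃ p, p.Prime ∧ p ≠ 2 ∧ p ∣ Nat.card L := by
      by_contra hno
      push Not at hno
      have hle := Layer.subnormal_le_pCore hL.subnormal (IsPGroup.of_card
        (Nat.eq_prime_pow_of_unique_prime_dvd Nat.card_pos.ne' fun {d} hd hdd =>
          by_contra fun h => hno d hd h hdd))
      rw [hO, le_bot_iff] at hle
      have := hL.not_comm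
      rw [hle] at this
      exact this inferInstance
    have := Fact.mk hp
    obtain ⟨x, hxo⟩ := exists_prime_orderOf_dvd_card' (G := L) p hpd
    let S : Set H := Set.range fun a : A => (a : H) * (x : H) * (a : H)⁻¹
    have hS : S ⊆ centralizer S := by
      rintro _ ⟨a, rfl⟩
      refine mem_centralizer_iff.2 ?_
      rintro _ ⟨a', rfl⟩
      by_cases hn' : (a : H)⁻¹ * a' ∈ normalizer (L : Set H)
      · have hd : (a : H)⁻¹ * a' ∈ centralizer (L : Set H) :=
          hBc (mem_inf.2 ⟨mul_mem (inv_mem a.2) a'.2, hn'⟩)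
        have : (a' : H) * x * (a' : H)⁻¹ = (a : H) * x * (a : H)⁻¹ := by
          calc (a' : H) * x * (a' : H)⁻¹
              = (a : H) * (((a : H)⁻¹ * a') * x * ((a : H)⁻¹ * a')⁻¹) * (a : H)⁻¹ := by group
            _ = _ := by rw [← mem_centralizer_iff.1 hd x x.2, mul_inv_cancel_right]
        show ((a' : H) * x * (a' : H)⁻¹) * ((a : H) * x * (a : H)⁻¹) = _
        simp only [this]
      · rcases hL.pair ((a : H)⁻¹ * a') with h | h
        · exact absurd (mem_normalizer_iff_map_conj_eq.2 h) hn'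
        · have := mem_centralizer_iff.1 (h.1 (mem_map_of_mem _ x.2)) x x.2
          simp only [MulEquiv.coe_toMonoidHom, MulAut.conj_apply] at this
          set y := (a : H)⁻¹ * a'
          calc (a' : H) * x * (a' : H)⁻¹ * ((a : H) * x * (a : H)⁻¹)
              = (a : H) * (y * x * y⁻¹ * x) * (a : H)⁻¹ := by simp only [y]; group
            _ = (a : H) * (x * (y * x * y⁻¹)) * (a : H)⁻¹ := by rw [this]
            _ = _ := by simp only [y]; group
    have hYe : Cfsg.IsElementaryAbelian p (closure S) := Thompson.ea_closure hS (by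
      rintro _ ⟨a, rfl⟩
      rw [conj_pow, ← SubmonoidClass.coe_pow, ← hxo, pow_orderOf_eq_one]
      simp)
    set Y := closure S
    have hYo : Odd (Nat.card Y) := by
      obtain ⟨n, hn⟩ := IsPGroup.iff_card.1 (Thompson.ea_isPGroup hYe)
      rw [hn]
      exact (hp.odd_of_ne_two hp2).pow
    have hAY : A ≤ normalizer (Y : Set H) := by
      intro a ha
      refine mem_normalizer_iff_map_conj_eq.2 (eq_of_le_of_card_ge ?_
        (card_map_of_injective (MulAut.conj a).injective).ge)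
      rw [MonoidHom.map_closure]
      refine closure_mono ?_
      rintro _ ⟨_, ⟨a', rfl⟩, rfl⟩
      exact ⟨⟨a, ha⟩ * a', by simp [mul_assoc]⟩
    have hne' : ¬ Y ≤ centralizer (A : Set H) := fun hYc => by
      have hxY : (x : H) ∈ Y := subset_closure ⟨1, by simp⟩
      have hax : a₀ * (x : H) * a₀⁻¹ = x :=
        mul_inv_eq_iff_eq_mul.2 (mem_centralizer_iff.1 (hYc hxY) a₀ ha₀)
      rcases hL.pair a₀ with h | h
      · exact ha₀L (mem_normalizer_iff_map_conj_eq.2 h)
      · have hm : (x : H) ∈ cj a₀ L ⊓ L := ⟨⟨x, x.2, hax⟩, x.2⟩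
        rw [h.2, mem_bot] at hm
        rw [show x = 1 from Subtype.ext hm, orderOf_one] at hxo
        exact hp.ne_one hxo.symm
    exact (packW_of_odd h3 hA hYo hAY hne').mono le_top fun _ h => h.1
  · -- `B` acts on `L`
    obtain ⟨B₁, hB₁, k, hk, hcard, g, hg, x, hx, hxc, r, hr, hr2, hxr, hcond⟩ :=
      act_simple hfree hc hL.simple hL.not_comm hL.subnormal (Thompson.ea_mono hA hBA)
        inf_le_right hBc
    obtain ⟨D, hDA, hDB, hDBA⟩ := exists_complement_ea hA hBA
    obtain ⟨δ, hδc, hδa, hδK⟩ := Offender.exists_diag (X := D) (M := L) (Y := ⊥)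
      (fun y hy m _ => by rw [mem_bot.1 hy]; simp)
      (fun a b hab => by
        have hn' : (b : H)⁻¹ * a ∉ normalizer (L : Set H) := fun h => hab (mem_bot.2 (by
          have h1 : ((b⁻¹ * a : D) : H) ∈ D ⊓ B := ⟨(b⁻¹ * a).2, hDA (b⁻¹ * a).2, h⟩
          rw [hDB, mem_bot] at h1
          have h2 : b⁻¹ * a = 1 := Subtype.ext h1
          rw [← inv_inv (a⁻¹ * b), mul_inv_rev, inv_inv, h2, inv_one]))
        rcases hL.pair ((b : H)⁻¹ * a) with h | h
        · exact absurd (mem_normalizer_iff_map_conj_eq.2 h) hn'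
        · have := SfFree.cj_mono (g := (b : H)) h.1
          rw [cj_cj, mul_inv_cancel_left, SfFree.cj_centralizer] at this
          exact this)
    set g' := δ ⟨g, hg.1⟩ with hg'def
    have hact : ∀ f ∈ L, g' * f * g'⁻¹ = g * f * g⁻¹ := fun f hf => hδa ⟨g, hg.1⟩ ⟨f, hf⟩
    have hg'N : g' ∈ normalizer (L : Set H) := QdFree.ZJControl.mem_normalizer_of_conj fun f hf => by
      rw [hact f hf]
      exact mul_mem (mul_mem hg.1 hf) (inv_mem hg.1)
    have hg'B : g' ∈ centralizer (B₁ : Set H) := by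
      refine hδK (centralizer (B₁ : Set H)) (fun d hd => ?_) ⟨g, hg.1⟩ hg.2
      exact le_normalizer (mem_centralizer_iff.2 fun z hz => (ea_commute hA (hBA (hB₁ hz)) (hDA hd)).eq)
    set A₁ := B₁ ⊔ D
    have hBD : B₁ ⊓ D = ⊥ := eq_bot_iff.2 fun z hz => hDB.le ⟨hz.2, hB₁ hz.1⟩
    have hAc : ∀ {X Y : Subgroup H}, X ≤ A → Y ≤ A → X ≤ centralizer (Y : Set H) := fun hX hY x hx =>
      mem_centralizer_iff.2 fun y hy => (ea_commute hA (hY hy) (hX hx)).eq
    have hcA : Nat.card A = 2 ^ k * Nat.card A₁ := by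
      have e1 := Thompson.card_sup_mul_card_inf_of_comm (hAc hDA hBA)
      have e2 := Thompson.card_sup_mul_card_inf_of_comm (hAc (hB₁.trans hBA) hDA)
      rw [hDBA, hDB, Subgroup.card_bot, mul_one, hcard] at e1
      rw [hBD, Subgroup.card_bot, mul_one] at e2
      rw [e1, show Nat.card A₁ = Nat.card B₁ * Nat.card D from e2]
      ring
    let act : normalizer (L : Set H) →* MulAut L := L.normalizerMonoidHom
    set W := A ⊔ cj g' A
    set Sg := ((W.subgroupOf (normalizer (L : Set H))).map act).comap act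
    have hBle : ∀ z, z ∈ B ⊔ cj g B → ∃ hz : z ∈ normalizer (L : Set H), (⟨z, hz⟩ : normalizer (L : Set H)) ∈ Sg := by
      have h1 : B ≤ Sg.map (normalizer (L : Set H)).subtype := fun b hb =>
        ⟨⟨b, hb.2⟩, ⟨⟨b, hb.2⟩, mem_sup_left (T := cj g' A) hb.1, rfl⟩, rfl⟩
      have h2 : cj g B ≤ Sg.map (normalizer (L : Set H)).subtype := by
        rintro _ ⟨b, hb, rfl⟩
        have hgN : g ∈ normalizer (L : Set H) := le_normalizer hg.1
        refine ⟨⟨g, hgN⟩ * ⟨b, hb.2⟩ * ⟨g, hgN⟩⁻¹, ⟨⟨g', hg'N⟩ * ⟨b, hb.2⟩ * ⟨g', hg'N⟩⁻¹,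
          mem_sup_right (S := A) (mem_map_of_mem _ hb.1), ?_⟩, rfl⟩
        have e : act ⟨g', hg'N⟩ = act ⟨g, hgN⟩ := MulEquiv.ext fun f => Subtype.ext (hact f f.2)
        simp only [map_mul, map_inv, e]
      intro z hz
      obtain ⟨w, hw, rfl⟩ := sup_le h1 h2 hz
      exact ⟨w.2, hw⟩
    obtain ⟨hxN, w, hwW, hwx⟩ := hBle x hx
    have hx1 : act ⟨x, hxN⟩ ≠ 1 := fun h => hxc (mem_centralizer_iff.2 fun f hf =>
      (mul_inv_eq_iff_eq_mul.1 (show x * f * x⁻¹ = f from (show ((act ⟨x, hxN⟩ ⟨f, hf⟩ : L) : H) = f by rw [h]; rfl))).symm)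
    obtain ⟨n, hn1, s, hns⟩ := exists_rPart act hr (w := w) (by
      obtain ⟨i, hi⟩ := hxr
      refine ⟨i, ?_⟩
      rw [hwx, ← map_pow, show (⟨x, hxN⟩ : normalizer (L : Set H)) ^ r ^ i = 1 from Subtype.ext hi,
        map_one]) (hwx ▸ hx1)
    refine ⟨A₁, sup_le (hB₁.trans hBA) hDA, k, hk, hcA, g', ⟨mem_top _, ?_⟩,
      ((w ^ n : normalizer (L : Set H)) : H), pow_mem hwW n,
      fun h => hn1 (by rw [show w ^ n = 1 from Subtype.ext h, map_one]), r, hr, hr2,
      ⟨s, by rw [← SubmonoidClass.coe_pow, hns]; rfl⟩, hcond⟩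
    refine le_centralizer_iff.1 (sup_le (le_centralizer_iff.1 (zpowers_le.2 hg'B))
      (le_centralizer_iff.1 (zpowers_le.2 (hδc ⟨g, hg.1⟩))) : A₁ ≤ centralizer (zpowers g' : Set H))
      (mem_zpowers g')

theorem pack_aux (n : ℕ) : ∀ (H : Type u) [Group H] [Finite H], Nat.card H = n →
    Cfsg.pCore 2 H = ⊥ → ¬ Cfsg.Involves (Equiv.Perm (Fin 3)) H → CompK H →
    ∀ A : Subgroup H, Cfsg.IsElementaryAbelian 2 A → A ≠ ⊥ → Pack A := by
  induction n using Nat.strong_induction_on with
  | _ n ih =>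
  intro H _ _ hn hO hfree hc A hA hA1
  have h3 := noThree_of_not_involves hfree
  have h2 := Fact.mk Nat.prime_two
  have hnt : Nontrivial H := by
    obtain ⟨a, -, ha⟩ := (bot_or_exists_ne_one A).resolve_left hA1
    exact ⟨⟨a, 1, ha⟩⟩
  obtain ⟨N, hN⟩ := Core.exists_isMinNormal (G := H)
  have hNn := hN.normal
  -- induction in a normal subgroup
  have hdown : ∀ C : Subgroup H, C.Normal → C ≠ ⊤ → A ≤ C → Pack A := by
    intro C hC hCt hAC
    have hp := ih (Nat.card C) (hn ▸ Core.card_lt_of_ne_top hCt) C rfl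
      (pCore_eq_bot_of_subnormal hO hC.isSubnormal) (fun h => hfree (QdFree.involves_of_subgroup h))
      (hc.of_subnormal hC.isSubnormal) (A.subgroupOf C)
      ((Thompson.ea_map_iff C.subtype_injective).1 (by rwa [map_subgroupOf_eq_of_le hAC]))
      (fun h => hA1 (by rw [← map_subgroupOf_eq_of_le hAC, h, Subgroup.map_bot]))
    have := hp.map C.subtype_injective (P' := fun x => x ≠ 1)
      fun x hx h => hx (Subtype.ext h)
    rw [map_subgroupOf_eq_of_le hAC] at this
    exact this.mono le_top fun _ h => h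
  by_cases hs : Group.IsSolvable N
  · obtain ⟨p, hp, hNp⟩ := hN.exists_isPGroup
    have := Fact.mk hp
    have hp2 : p ≠ 2 := by
      rintro rfl
      exact hN.ne_bot (le_bot_iff.1 (hO ▸ Core.le_pCore hNp.1))
    have hNo : Odd (Nat.card N) := by
      obtain ⟨m, hm⟩ := IsPGroup.iff_card.1 hNp.1
      rw [hm]
      exact (hp.odd_of_ne_two hp2).pow
    by_cases hAN : N ≤ centralizer (A : Set H)
    · by_cases hCt : centralizer (N : Set H) = ⊤
      · -- divide out a central subgroup
        have hNc : N ≤ center H := fun x hx => mem_center_iff.2 fun y =>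
          ((mem_centralizer_iff.1 (hCt ▸ mem_top y : y ∈ centralizer (N : Set H))) x hx).symm
        let π := QuotientGroup.mk' N
        have hπ := QuotientGroup.mk'_surjective N
        have hinj : ∀ a ∈ A, π a = 1 → a = 1 := fun a ha h => by
          have haN : a ∈ N := (QuotientGroup.eq_one_iff a).1 h
          have h1 := orderOf_dvd_natCard N haN
          have h4 : orderOf a ∣ 2 := orderOf_dvd_of_pow_eq_one (hA.2 a ha)
          exact orderOf_eq_one_iff.1
            (Nat.eq_one_of_dvd_coprimes (Nat.coprime_two_left.2 hNo) h4 h1)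
        have hp' := ih (Nat.card (H ⧸ N)) (hn ▸ Core.card_quotient_lt hN.ne_bot) (H ⧸ N) rfl
          (pCore_quotient_central_eq_bot hO hNc) (fun h => hfree (QdFree.involves_of_surjective h hπ))
          (hc.of_surjective π hπ) (A.map π) (Thompson.ea_map hA _) (fun h => by
            obtain ⟨a, ha, ha1⟩ := (bot_or_exists_ne_one A).resolve_left hA1
            exact ha1 (hinj a ha (mem_bot.1 (h ▸ mem_map_of_mem π ha))))
        obtain ⟨Ab, hAb, k, hk, hcard, gb, hgb, xb, hxb, hxb1, r, hr, hr2, hxr, hcond⟩ := hp'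
        obtain ⟨g, rfl⟩ := hπ gb
        set A₁ := A ⊓ Ab.comap π
        have hmap : A₁.map π = Ab := le_antisymm
          (by rintro _ ⟨z, hz, rfl⟩; exact hz.2) (fun z hz => by
            obtain ⟨a, ha, rfl⟩ := hAb hz
            exact ⟨a, ⟨ha, hz⟩, rfl⟩)
        have hcard' : ∀ X : Subgroup H, X ≤ A → Nat.card (X.map π) = Nat.card X := fun X hX => by
          refine (Nat.card_eq_of_bijective (fun x : X => (⟨π x, mem_map_of_mem π x.2⟩ : X.map π))
            ⟨fun x y h => ?_, ?_⟩).symm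
          · have h' : π x = π y := congrArg Subtype.val h
            refine Subtype.ext (mul_inv_eq_one.1 (hinj _ (mul_mem (hX x.2) (inv_mem (hX y.2))) ?_))
            rw [map_mul, map_inv, h', mul_inv_cancel]
          · rintro ⟨_, x, hx, rfl⟩
            exact ⟨⟨x, hx⟩, rfl⟩
        have hxW : xb ∈ (A ⊔ cj g A).map π := by
          rw [Subgroup.map_sup, map_cj]
          exact hxb
        obtain ⟨w, hw, rfl⟩ := hxW
        obtain ⟨m, hm1, s, hms⟩ := exists_rPart π hr (w := w) hxr hxb1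
        refine ⟨A₁, inf_le_left, k, hk, by rw [← hcard' A le_rfl, hcard, ← hmap, hcard' _ inf_le_left],
          g, ⟨mem_top g, mem_centralizer_iff.2 fun a ha => ?_⟩, w ^ m, pow_mem hw m,
          fun h => hm1 (by rw [h, map_one]), r, hr, hr2, ⟨s, hms⟩, hcond⟩
        -- the lift of `g` centralises `A₁`
        have hab : Commute (π a) (π g) := mem_centralizer_iff.1 hgb.2 _ (hmap ▸ mem_map_of_mem π ha)
        set z := g * a * g⁻¹ * a with hz
        have ha2 := ea_sq hA ha.1
        have hzN : z ∈ N := (QuotientGroup.eq_one_iff z).1 (by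
          show π z = 1
          rw [hz, map_mul, map_mul, map_mul, map_inv, ← hab.eq, mul_inv_cancel_right, ← map_mul, ha2,
            map_one])
        have hzc := mem_center_iff.1 (hNc hzN)
        have e1 : g * a * g⁻¹ = z * a := by rw [hz, mul_assoc _ a a, ha2, mul_one]
        have hz2 : z ^ 2 = 1 := by
          have e2 : (g * a * g⁻¹) * (g * a * g⁻¹) = 1 := by
            rw [show g * a * g⁻¹ * (g * a * g⁻¹) = g * (a * a) * g⁻¹ by group, ha2, mul_one,
              mul_inv_cancel]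
          rw [e1, mul_assoc, ← mul_assoc a, hzc a, mul_assoc z a, ha2, mul_one] at e2
          rw [pow_two, e2]
        have hz1 : z = 1 := orderOf_eq_one_iff.1 (Nat.eq_one_of_dvd_coprimes
          (Nat.coprime_two_left.2 hNo) (orderOf_dvd_of_pow_eq_one hz2) (orderOf_dvd_natCard N hzN))
        rw [hz1, one_mul, mul_inv_eq_iff_eq_mul] at e1
        exact e1.symm
      · exact hdown _ inferInstance hCt (le_centralizer_iff.1 hAN)
    · exact (packW_of_odd h3 hA hNo (by rw [normalizer_eq_top_iff.2 hNn]; exact le_top) hAN).mono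
        le_top fun _ h => h.1
  · by_cases hAN : A ≤ centralizer (N : Set H)
    · refine hdown _ inferInstance (fun h => hs ?_) hAN
      exact Group.isSolvable_of_comm fun x y => Subtype.ext
        (mem_centralizer_iff.1 (h ▸ mem_top (y : H) : (y : H) ∈ centralizer (N : Set H)) x x.2)
    · obtain ⟨L, hL⟩ := exists_comp hN hs
      obtain ⟨c, hc'⟩ : ∃ c, ¬ A ≤ centralizer (cj c L : Set H) := by
        by_contra hno
        push Not at hno
        refine hAN (le_centralizer_iff.1 ?_)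
        rw [← hL.gen]
        exact iSup_le fun c => le_centralizer_iff.1 (hno c)
      exact pack_of_comp hO hfree hc (hL.conj c) hA hc'

/-- Every nontrivial elementary abelian 2-subgroup has a package. -/
theorem exists_pack (hO : Cfsg.pCore 2 H = ⊥) (hfree : ¬ Cfsg.Involves (Equiv.Perm (Fin 3)) H)
    (hc : CompK H) (A : Subgroup H) (hA : Cfsg.IsElementaryAbelian 2 A) (hA1 : A ≠ ⊥) : Pack A :=
  pack_aux (Nat.card H) H rfl hO hfree hc A hA hA1

end Cfsg.Agent.S3Free
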