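import Cfsg.Agent.S3Free.Pack

/-!
# Packages for a group acting on a simple subgroup
-/

set_option autoImplicit false

namespace Cfsg.Agent.S3Free

open Subgroup
open Cfsg.Agent.SfFree (cj mem_cj ea_commute ea_sq)

universe u
variable {H : Type u} [Group H]

theorem center_eq_bot_of_simple {L : Type*} [Group L] (hs : IsSimpleGroup L)
    (hn : ¬ IsMulCommutative L) : center L = ⊥ :=
  (hs.eq_bot_or_eq_top_of_normal _ inferInstance).resolve_right fun h =>
    hn ⟨⟨fun a b => (mem_center_iff.1 (h ▸ mem_top b) a)⟩⟩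

theorem inf_centralizer_self {L : Subgroup H} (hs : IsSimpleGroup L) (hn : ¬ IsMulCommutative L) :
    L ⊓ centralizer (L : Set H) = ⊥ := by
  refine eq_bot_iff.2 fun x hx => ?_
  have : (⟨x, hx.1⟩ : L) ∈ center L := mem_center_iff.2 fun y =>
    Subtype.ext (mem_centralizer_iff.1 hx.2 y y.2)
  rw [center_eq_bot_of_simple hs hn, mem_bot] at this
  exact mem_bot.2 (congrArg Subtype.val this)

/-- A power of `r`-power order with the same nontrivial image. -/
theorem exists_rPart [Finite H] {K : Type*} [Group K] (φ : H →* K) {w : H} {r : ℕ} (hr : r.Prime)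
    (h : ∃ i, φ w ^ r ^ i = 1) (h1 : φ w ≠ 1) :
    ∃ n : ℕ, φ (w ^ n) ≠ 1 ∧ ∃ s, (w ^ n) ^ r ^ s = 1 := by
  obtain ⟨s, m, hm, he⟩ := Nat.exists_eq_pow_mul_and_not_dvd (orderOf_pos w).ne' r hr.ne_one
  refine ⟨m, fun h' => h1 ?_, s, by rw [← pow_mul, mul_comm, ← he, pow_orderOf_eq_one]⟩
  obtain ⟨i, hi⟩ := h
  rw [map_pow] at h'
  have d1 := orderOf_dvd_of_pow_eq_one h'
  have d2 := orderOf_dvd_of_pow_eq_one hi
  have : (r ^ i).Coprime m := Nat.Coprime.pow_left i ((hr.coprime_iff_not_dvd).2 hm)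
  exact orderOf_eq_one_iff.1 (Nat.eq_one_of_dvd_coprimes this d2 d1)

/-- The package for an action on `L`. -/
abbrev Act (L B : Subgroup H) : Prop := PackW L (fun x => x ∉ centralizer (L : Set H)) B

theorem act_of_mem {L B : Subgroup H} (hs : IsSimpleGroup L) (hn : ¬ IsMulCommutative L)
    (h : PackW L (fun x => x ≠ 1 ∧ x ∈ L) B) : Act L B :=
  h.mono le_rfl fun x hx hc => hx.1 (mem_bot.1 (inf_centralizer_self hs hn ▸
    (⟨hx.2, hc⟩ : x ∈ L ⊓ centralizer (L : Set H))))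

variable [Finite H]

/-- If `B` induces inner automorphisms, the package comes from `L`. -/
theorem act_of_inner {L B : Subgroup H} (hs : IsSimpleGroup L) (hn : ¬ IsMulCommutative L)
    (hB : Cfsg.IsElementaryAbelian 2 B) (hBL : B ≤ normalizer (L : Set H))
    (hne : ¬ B ≤ centralizer (L : Set H))
    (hin : ∀ b ∈ B, ∃ l ∈ L, ∀ y ∈ L, b * y * b⁻¹ = l * y * l⁻¹)
    (hpk : ∀ E : Subgroup L, Cfsg.IsElementaryAbelian 2 E → E ≠ ⊥ → Pack E) : Act L B := by
  let act : normalizer (L : Set H) →* MulAut L := L.normalizerMonoidHom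
  have hact : ∀ (w : normalizer (L : Set H)) (y : L), (act w y : H) = (w : H) * y * (w : H)⁻¹ :=
    fun w y => rfl
  have hcinj : Function.Injective (MulAut.conj : L →* MulAut L) := by
    refine (injective_iff_map_eq_one _).2 fun l hl => ?_
    rw [← mem_bot, ← center_eq_bot_of_simple hs hn, mem_center_iff]
    intro y
    exact (mul_inv_eq_iff_eq_mul.1 (DFunLike.congr_fun hl y)).symm
  let inB : B →* MulAut L := act.comp (inclusion hBL)
  have hrange : ∀ b : B, ∃ l : L, inB b = MulAut.conj l := fun b => by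
    obtain ⟨l, hl, h⟩ := hin b b.2
    exact ⟨⟨l, hl⟩, MulEquiv.ext fun y => Subtype.ext (h y y.2)⟩
  choose ψf hψ using hrange
  let ψ : B →* L := MonoidHom.mk' ψf fun a b => hcinj (by rw [map_mul, ← hψ, ← hψ, ← hψ, map_mul])
  have hψe : ∀ b : B, inB b = MulAut.conj (ψ b) := hψ
  set E := ψ.range
  have hBc : ∀ a b : B, a * b = b * a := fun a b => Subtype.ext (ea_commute hB a.2 b.2).eq
  have hEea : Cfsg.IsElementaryAbelian 2 E := by
    refine Thompson.ea_iff.2 ⟨?_, ?_⟩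
    · rintro _ ⟨a, rfl⟩
      refine mem_centralizer_iff.2 ?_
      rintro _ ⟨b, rfl⟩
      rw [← map_mul, ← map_mul, hBc]
    · rintro _ ⟨a, rfl⟩
      have h2 : a ^ 2 = 1 := Subtype.ext (hB.2 a a.2)
      rw [← map_pow, h2, map_one]
  have hEne : E ≠ ⊥ := fun h => hne fun b hb => mem_centralizer_iff.2 fun y hy => by
    have h1 : ψ ⟨b, hb⟩ = 1 := mem_bot.1 (h ▸ ⟨⟨b, hb⟩, rfl⟩)
    have := congrArg Subtype.val (DFunLike.congr_fun (hψe ⟨b, hb⟩) ⟨y, hy⟩)
    rw [h1, map_one] at this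
    exact (mul_inv_eq_iff_eq_mul.1 this).symm
  obtain ⟨A₁, h1, k, hk, hc, g, hg, x, hx, hx1, r, hr, hr2, hxr, hcond⟩ := hpk E hEea hEne
  set B₁ := (A₁.comap ψ).map B.subtype
  have hgB : ∀ b : B, ψ b ∈ A₁ → (b : H) * g * (b : H)⁻¹ = g := fun b hb => by
    have := congrArg Subtype.val (DFunLike.congr_fun (hψe b) g)
    simp only [MulAut.conj_apply] at this
    rw [mem_centralizer_iff.1 hg.2 _ hb, mul_inv_cancel_right] at this
    exact this
  refine ⟨B₁, map_subtype_le _, k, hk, ?_, g, ⟨g.2, mem_centralizer_iff.2 ?_⟩, ?_⟩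
  · have e1 : (A₁.comap ψ).index = 2 ^ k := by
      rw [index_comap]
      have e2 := Coprime.card_mul_relIndex_of_le h1
      rw [hc, mul_comm (2 ^ k)] at e2
      exact Nat.eq_of_mul_eq_mul_left Nat.card_pos e2
    rw [card_map_of_injective B.subtype_injective, ← e1, mul_comm, card_mul_index]
  · rintro _ ⟨b, hb, rfl⟩
    exact mul_inv_eq_iff_eq_mul.1 (hgB b hb)
  set W := B ⊔ cj (g : H) B
  have hcjn : cj (g : H) B ≤ normalizer (L : Set H) := by
    rintro _ ⟨b, hb, rfl⟩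
    exact mul_mem (mul_mem (le_normalizer g.2) (hBL hb)) (inv_mem (le_normalizer g.2))
  set Sg : Subgroup L := ((W.subgroupOf (normalizer (L : Set H))).map act).comap MulAut.conj
  have hEle : E ≤ Sg := by
    rintro _ ⟨b, rfl⟩
    exact ⟨⟨b, hBL b.2⟩, mem_sup_left (T := cj (g : H) B) b.2, hψe b⟩
  have hE'le : cj g E ≤ Sg := by
    rintro _ ⟨_, ⟨b, rfl⟩, rfl⟩
    refine ⟨⟨(g : H) * b * (g : H)⁻¹, hcjn ⟨b, b.2, rfl⟩⟩,
      mem_sup_right (S := B) (mem_map_of_mem _ b.2), ?_⟩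
    have e : (⟨(g : H) * b * (g : H)⁻¹, hcjn ⟨b, b.2, rfl⟩⟩ : normalizer (L : Set H)) =
        ⟨g, le_normalizer g.2⟩ * inclusion hBL b * ⟨g, le_normalizer g.2⟩⁻¹ := rfl
    have eg : act ⟨g, le_normalizer g.2⟩ = MulAut.conj g := MulEquiv.ext fun y => rfl
    rw [e, map_mul, map_mul, map_inv, eg, show act (inclusion hBL b) = MulAut.conj (ψ b) from hψe b,
      ← map_inv, ← map_mul, ← map_mul]
    rfl
  obtain ⟨w, hwW, hwx⟩ := (sup_le hEle hE'le) hx
  have hw1 : act w ≠ 1 := by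
    rw [hwx]
    exact fun h => hx1 (hcinj (h.trans (map_one _).symm))
  obtain ⟨n, hn1, s, hns⟩ := exists_rPart act hr (by
    obtain ⟨i, hi⟩ := hxr
    exact ⟨i, by rw [hwx, ← map_pow, hi, map_one]⟩) hw1
  refine ⟨((w ^ n : normalizer (L : Set H)) : H), ?_, fun hcent => hn1 (MulEquiv.ext fun y => Subtype.ext ?_),
    r, hr, hr2, ⟨s, by rw [← SubmonoidClass.coe_pow, hns]; rfl⟩, hcond⟩
  · exact pow_mem hwW n
  · rw [hact]
    exact mul_inv_eq_iff_eq_mul.2 (mem_centralizer_iff.1 hcent y y.2).symm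

end Cfsg.Agent.S3Free
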