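import Cfsg.Agent.S3Free.Small
import Cfsg.Agent.Coprime.Generation

/-!
# Packages

`PackW Y P A` : a subgroup `A₁` of `A` of index `2 ^ k`, centralized by some `g ∈ Y`, such that
`⟨A, A ^ g⟩` contains an element with property `P` of odd prime power order for a prime `r`
dividing no `2 ^ j - 1` with `j ≤ 4 k - 2`.
-/

set_option autoImplicit false

namespace Cfsg.Agent.S3Free

open Subgroup
open Cfsg.Agent.SfFree (cj cj_mono ea_commute ea_sq)

universe u
variable {H : Type u} [Group H]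

/-- The package. -/
def PackW (Y : Subgroup H) (P : H → Prop) (A : Subgroup H) : Prop :=
  ∃ A₁ : Subgroup H, A₁ ≤ A ∧ ∃ k : ℕ, 0 < k ∧ Nat.card A = 2 ^ k * Nat.card A₁ ∧
    ∃ g ∈ Y ⊓ centralizer (A₁ : Set H), ∃ x ∈ A ⊔ cj g A, P x ∧
      ∃ r : ℕ, r.Prime ∧ r ≠ 2 ∧ (∃ i, x ^ r ^ i = 1) ∧
        ∀ j, 1 ≤ j → j ≤ 4 * k - 2 → ¬ r ∣ 2 ^ j - 1

/-- The plain package. -/
abbrev Pack (A : Subgroup H) : Prop := PackW ⊤ (fun x => x ≠ 1) A

theorem PackW.mono {Y Y' A : Subgroup H} {P P' : H → Prop} (h : PackW Y P A) (hY : Y ≤ Y')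
    (hP : ∀ x, P x → P' x) : PackW Y' P' A := by
  obtain ⟨A₁, h1, k, hk, hc, g, hg, x, hx, hPx, r, hr⟩ := h
  exact ⟨A₁, h1, k, hk, hc, g, ⟨hY hg.1, hg.2⟩, x, hx, hP x hPx, r, hr⟩

theorem map_cj {K : Type*} [Group K] (ι : H →* K) (g : H) (A : Subgroup H) :
    (cj g A).map ι = cj (ι g) (A.map ι) := by
  rw [cj, cj, Subgroup.map_map, Subgroup.map_map]
  congr 1
  ext y
  simp

theorem PackW.map {K : Type*} [Group K] {Y A : Subgroup H} {P : H → Prop} {P' : K → Prop}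
    (h : PackW Y P A) {ι : H →* K} (hι : Function.Injective ι) (hP : ∀ x, P x → P' (ι x)) :
    PackW (Y.map ι) P' (A.map ι) := by
  obtain ⟨A₁, h1, k, hk, hc, g, hg, x, hx, hPx, r, hr, hr2, ⟨i, hi⟩, hcond⟩ := h
  refine ⟨A₁.map ι, map_mono h1, k, hk, ?_, ι g, ⟨mem_map_of_mem ι hg.1, ?_⟩, ι x, ?_, hP x hPx,
    r, hr, hr2, ⟨i, by rw [← map_pow, hi, map_one]⟩, hcond⟩
  · rwa [card_map_of_injective hι, card_map_of_injective hι]
  · refine mem_centralizer_iff.2 ?_
    rintro _ ⟨a, ha, rfl⟩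
    rw [← map_mul, ← map_mul, mem_centralizer_iff.1 hg.2 a ha]
  · rw [← map_cj, ← Subgroup.map_sup]
    exact mem_map_of_mem ι hx

/-- The freeness hypothesis, in inversion form. -/
def NoThree (H : Type u) [Group H] : Prop :=
  ∀ a q : H, a * a = 1 → orderOf q = 3 → a * q * a⁻¹ ≠ q⁻¹

theorem noThree_of_not_involves [Finite H] (h : ¬ Cfsg.Involves (Equiv.Perm (Fin 3)) H) :
    NoThree H := by
  intro a q ha hq hinv
  have ha1 : a ≠ 1 := fun e => by
    rw [e, one_mul, inv_one, mul_one] at hinv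
    have := orderOf_dvd_of_pow_eq_one (x := q) (n := 2)
      (by rw [pow_two]; exact eq_inv_iff_mul_eq_one.mp hinv)
    rw [hq] at this
    norm_num at this
  obtain ⟨K, f, hf⟩ := QdFree.SquareBound.involves_s3_of_inverted ha ha1 hq hinv
  exact h (QdFree.involves_mk K f hf)

variable [Finite H]

/-- A hyperplane `A₁` and a product of two conjugate involutions which is not a 2-element. -/
theorem packW_of_hyperplane (h3 : NoThree H) {Y A A₁ : Subgroup H}
    (hA : Cfsg.IsElementaryAbelian 2 A) (hA₁ : A₁ ≤ A) (hcard : Nat.card A = 2 * Nat.card A₁)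
    {a g : H} (ha : a ∈ A) (hg : g ∈ Y ⊓ centralizer (A₁ : Set H)) {y : H}
    (hy : y ∈ zpowers (a * (g * a * g⁻¹))) (hy1 : y ≠ 1) (hyo : Odd (orderOf y)) :
    PackW Y (fun x => x ≠ 1 ∧ x ∈ zpowers (a * (g * a * g⁻¹))) A := by
  set e := a * (g * a * g⁻¹) with he
  set r := (orderOf y).minFac with hr
  have hn1 : orderOf y ≠ 1 := fun h => hy1 (orderOf_eq_one_iff.1 h)
  have hrp : r.Prime := Nat.minFac_prime hn1
  have hrd : r ∣ orderOf y := Nat.minFac_dvd _
  set x := y ^ (orderOf y / r) with hx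
  have hxo : orderOf x = r := orderOf_pow_orderOf_div (orderOf_pos y).ne' hrd
  have hr2 : r ≠ 2 := fun h2 => (Nat.not_even_iff_odd.2 hyo) (even_iff_two_dvd.2 (h2 ▸ hrd))
  have hxe : x ∈ zpowers e := pow_mem hy _
  have ha2 : a * a = 1 := ea_sq hA ha
  have hainv : a⁻¹ = a := inv_eq_of_mul_eq_one_left ha2
  have hinv : a * x * a⁻¹ = x⁻¹ := by
    obtain ⟨i, hi⟩ := hxe
    have h1 : a * e * a⁻¹ = e⁻¹ := by
      rw [he, mul_inv_rev, show (g * a * g⁻¹)⁻¹ = g * a * g⁻¹ by simp [mul_assoc, hainv],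
        ← mul_assoc a a, ha2, one_mul]
    rw [← hi]
    show a * e ^ i * a⁻¹ = (e ^ i)⁻¹
    rw [← conj_zpow, h1, inv_zpow]
  have hr3 : r ≠ 3 := fun h => h3 a x ha2 (hxo.trans h) hinv
  refine ⟨A₁, hA₁, 1, one_pos, by rwa [pow_one], g, hg, x, ?_, ⟨?_, hxe⟩, r, hrp, hr2,
    ⟨1, by rw [pow_one, ← hxo, pow_orderOf_eq_one]⟩, fun j hj1 hj2 hd => ?_⟩
  · exact zpowers_le.2 (mul_mem (mem_sup_left ha) (mem_sup_right (mem_map_of_mem _ ha))) hxe
  · intro h
    rw [h, orderOf_one] at hxo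
    exact hrp.ne_one hxo.symm
  · obtain rfl | rfl : j = 1 ∨ j = 2 := by omega
    · exact hrp.not_dvd_one hd
    · exact hr3 ((Nat.prime_dvd_prime_iff_eq hrp Nat.prime_three).1 hd)

theorem card_eq_two_mul {A B : Subgroup H} {a : H} (hA : Cfsg.IsElementaryAbelian 2 A) (hBA : B ≤ A)
    (haA : B ⊔ zpowers a = A) (haB : a ∉ B) : Nat.card A = 2 * Nat.card B := by
  have ha : a ∈ A := haA ▸ mem_sup_right (mem_zpowers a)
  have hle : zpowers a ≤ centralizer (B : Set H) := zpowers_le.2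
    (mem_centralizer_iff.2 fun b hb => (ea_commute hA (hBA hb) ha).eq)
  have hoa : orderOf a = 2 :=
    orderOf_eq_prime (by rw [pow_two]; exact ea_sq hA ha) fun h => haB (h ▸ one_mem B)
  have e := Thompson.card_sup_mul_card_inf_of_comm (X := B) (Y := zpowers a)
    (le_centralizer_iff.1 hle)
  have hd : B ⊓ zpowers a = ⊥ := by
    refine eq_bot_iff.mpr fun y hy => ?_
    obtain ⟨i, rfl⟩ := mem_zpowers_iff.mp hy.2
    rcases Int.emod_two_eq_zero_or_one i with h | h <;> rw [← zpow_mod_orderOf, hoa] at hy ⊢ <;>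
      simp only [Nat.cast_ofNat, h, zpow_zero, zpow_one] at hy ⊢
    · exact one_mem _
    · exact absurd hy.1 haB
  rw [haA, hd, Subgroup.card_bot, mul_one, Nat.card_zpowers, hoa] at e
  rw [e, mul_comm]

/-- A subgroup of odd order normalised but not centralised by `A`. -/
theorem packW_of_odd (h3 : NoThree H) {Y A : Subgroup H} (hA : Cfsg.IsElementaryAbelian 2 A)
    (hY : Odd (Nat.card Y)) (hAY : A ≤ normalizer (Y : Set H))
    (hne : ¬ Y ≤ centralizer (A : Set H)) :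
    PackW Y (fun x => x ≠ 1 ∧ x ∈ Y) A := by
  have : IsMulCommutative A := hA.1
  have h2 := Fact.mk Nat.prime_two
  have hcop : (Nat.card A).Coprime (Nat.card Y) := by
    obtain ⟨n, hn⟩ := IsPGroup.iff_card.mp (Thompson.ea_isPGroup hA)
    rw [hn]; exact (Nat.coprime_two_left.2 hY).pow_left n
  obtain ⟨B, ⟨hBA, a, ha, haA⟩, y, hy, hyA⟩ : ∃ B ∈ Coprime.Cocyclic A,
      ∃ y ∈ Y ⊓ centralizer (B : Set H), y ∉ centralizer (A : Set H) := by
    by_contra hno
    push Not at hno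
    refine hne ?_
    rw [← Coprime.iSup_cocyclic_centralizer_eq hAY hcop]
    exact iSup₂_le fun B hB x hx => hno B hB x hx
  have haB : a ∉ B := fun h => hyA (by
    have e : B = A := by rw [← haA, sup_eq_left.mpr (zpowers_le.mpr h)]
    exact e ▸ hy.2)
  have ha2 : a * a = 1 := ea_sq hA ha
  have hainv : a⁻¹ = a := inv_eq_of_mul_eq_one_left ha2
  have heY : a * (y * a * y⁻¹) ∈ Y := by
    have : a * (y * a * y⁻¹) = (a * y * a⁻¹) * y⁻¹ := by rw [hainv]; group
    rw [this]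
    exact mul_mem ((mem_normalizer_iff.1 (hAY ha) y).1 hy.1) (inv_mem hy.1)
  have he1 : a * (y * a * y⁻¹) ≠ 1 := fun h => by
    refine hyA (haA ▸ ?_)
    have hc : Commute y a := by
      have := eq_inv_of_mul_eq_one_right h
      rw [hainv] at this
      exact mul_inv_eq_iff_eq_mul.1 this
    refine le_centralizer_iff.1 (sup_le (le_centralizer_iff.1 (zpowers_le.2 hy.2)) (zpowers_le.2 ?_) :
      B ⊔ zpowers a ≤ centralizer (zpowers y : Set H)) (mem_zpowers y)
    exact mem_centralizer_iff.2 fun z hz => by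
      obtain ⟨i, rfl⟩ := mem_zpowers_iff.1 hz
      exact (hc.zpow_left i).eq
  refine (packW_of_hyperplane h3 hA hBA (card_eq_two_mul hA hBA haA haB) ha hy
    (mem_zpowers _) he1 (hY.of_dvd_nat (orderOf_dvd_natCard Y heY))).mono le_rfl ?_
  exact fun x hx => ⟨hx.1, zpowers_le.2 heY hx.2⟩

end Cfsg.Agent.S3Free
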