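import Cfsg.Agent.S4Free.Basic
import Mathlib.GroupTheory.GroupAction.FixedPoints

/-!
# An element of odd prime power order acting on a 2-group

If it moves every point outside a subgroup of small index, the subgroup is everything.
-/

set_option autoImplicit false

namespace Cfsg.Agent.S3Free

open Subgroup

variable {G : Type*} [Group G] [Finite G]

/-- Counting the fixed points of an element of `r`-power order. -/
theorem card_modEq_fixed {D : Subgroup G} {x : G} {r : ℕ} [Fact r.Prime]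
    (hxD : x ∈ normalizer (D : Set G)) (hxr : ∃ i, x ^ r ^ i = 1) :
    Nat.card D ≡ Nat.card (D ⊓ centralizer {x} : Subgroup G) [MOD r] := by
  have hle : zpowers x ≤ normalizer (D : Set G) := zpowers_le.2 hxD
  have hR : IsPGroup r (zpowers x) := by
    obtain ⟨i, hi⟩ := hxr
    rintro ⟨_, j, rfl⟩
    refine ⟨i, Subtype.ext ?_⟩
    rw [SubmonoidClass.coe_pow, OneMemClass.coe_one]
    show (x ^ j) ^ r ^ i = 1
    rw [← zpow_natCast, ← zpow_mul, mul_comm, zpow_mul, zpow_natCast, hi, one_zpow]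
  let _ : MulAction (zpowers x) D :=
    MulAction.compHom D ((D.normalizerMonoidHom).comp (inclusion hle))
  have hfix : Nat.card (MulAction.fixedPoints (zpowers x) D) =
      Nat.card (D ⊓ centralizer {x} : Subgroup G) := by
    refine Nat.card_congr
      { toFun := fun w => ⟨(w.1 : G), w.1.2, mem_centralizer_singleton_iff.2 ?_⟩
        invFun := fun g => ⟨⟨(g : G), g.2.1⟩, ?_⟩
        left_inv := fun _ => rfl
        right_inv := fun _ => rfl }
    · exact (mul_inv_eq_iff_eq_mul.1 (congrArg Subtype.val (w.2 ⟨x, mem_zpowers x⟩))).symm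
    · intro z
      refine Subtype.ext (mul_inv_eq_iff_eq_mul.2 ?_)
      obtain ⟨j, hj⟩ := mem_zpowers_iff.1 z.2
      show (z : G) * (g : G) = (g : G) * (z : G)
      rw [← hj]
      exact ((show Commute x (g : G) from
        (mem_centralizer_singleton_iff.1 g.2.2).symm).zpow_left j).eq
  have := hR.card_modEq_card_fixedPoints D
  rwa [hfix] at this

/-- If an element of odd prime power order fixes only points of `C`, and `C` has small index, then
`C = D`. -/
theorem eq_of_fixed_le {D C : Subgroup G} {x : G} {r d : ℕ} (hr : r.Prime) (hr2 : r ≠ 2)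
    (hD : IsPGroup 2 D) (hCD : C ≤ D) (hxD : x ∈ normalizer (D : Set G))
    (hxC : x ∈ normalizer (C : Set G)) (hfix : D ⊓ centralizer {x} ≤ C)
    (hxr : ∃ i, x ^ r ^ i = 1) (hidx : C.relIndex D ≤ 2 ^ d)
    (hcond : ∀ j, 1 ≤ j → j ≤ d → ¬ r ∣ 2 ^ j - 1) : C = D := by
  have := Fact.mk hr
  have h2 := Fact.mk Nat.prime_two
  obtain ⟨a, ha⟩ := IsPGroup.iff_card.1 (hD.to_le hCD)
  obtain ⟨j, hj⟩ := hD.index (C.subgroupOf D)
  have hj' : C.relIndex D = 2 ^ j := hj
  have hmul := Coprime.card_mul_relIndex_of_le hCD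
  rcases Nat.eq_zero_or_pos j with rfl | hj1
  · rw [hj', pow_zero, mul_one] at hmul
    exact eq_of_le_of_card_ge hCD hmul.ge
  exfalso
  have hjd : j ≤ d := (Nat.pow_le_pow_iff_right Nat.one_lt_two).1 (hj' ▸ hidx)
  have e : (C ⊓ centralizer {x} : Subgroup G) = D ⊓ centralizer {x} :=
    le_antisymm (inf_le_inf_right _ hCD) (le_inf hfix inf_le_right)
  have h1 : Nat.card D ≡ Nat.card C [MOD r] :=
    (card_modEq_fixed hxD hxr).trans (e ▸ (card_modEq_fixed hxC hxr).symm)
  rw [← hmul, hj', ha] at h1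
  have h3 := (Nat.modEq_iff_dvd' (Nat.le_mul_of_pos_right _ (by positivity))).1 h1.symm
  rw [← Nat.mul_sub_one] at h3
  rcases hr.dvd_mul.1 h3 with h | h
  · exact hr2 ((Nat.prime_dvd_prime_iff_eq hr Nat.prime_two).1 (hr.dvd_of_dvd_pow h))
  · exact hcond j hj1 hjd h

/-- An element of odd prime power order centralising a subgroup of small index centralises all. -/
theorem mem_centralizer_of_index {D C₀ : Subgroup G} {x : G} {r d : ℕ} (hr : r.Prime) (hr2 : r ≠ 2)
    (hD : IsPGroup 2 D) (hCD : C₀ ≤ D) (hxD : x ∈ normalizer (D : Set G))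
    (hx : x ∈ centralizer (C₀ : Set G))
    (hxr : ∃ i, x ^ r ^ i = 1) (hidx : C₀.relIndex D ≤ 2 ^ d)
    (hcond : ∀ j, 1 ≤ j → j ≤ d → ¬ r ∣ 2 ^ j - 1) : x ∈ centralizer (D : Set G) := by
  set C := D ⊓ centralizer {x}
  have h0 : C₀ ≤ C := le_inf hCD fun c hc =>
    mem_centralizer_singleton_iff.2 (mem_centralizer_iff.1 hx c hc)
  have hxC : x ∈ normalizer (C : Set G) := by
    refine QdFree.ZJControl.mem_normalizer_of_conj fun c hc => ?_
    have : x * c * x⁻¹ = c :=
      mul_inv_eq_iff_eq_mul.2 (mem_centralizer_singleton_iff.1 hc.2).symm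
    rwa [this]
  have h1 : C.relIndex D ≤ 2 ^ d :=
    (Nat.le_of_dvd (Nat.pos_of_ne_zero index_ne_zero_of_finite) (relIndex_dvd_of_le_left D h0)).trans hidx
  have e := eq_of_fixed_le hr hr2 hD inf_le_left hxD hxC le_rfl hxr h1 hcond
  exact mem_centralizer_iff.2 fun v hv => mem_centralizer_singleton_iff.1 (e.ge hv).2

omit [Finite G] in
/-- The order of an element of odd prime power order is odd. -/
theorem odd_orderOf {x : G} {r : ℕ} (hr : r.Prime) (hr2 : r ≠ 2) (hxr : ∃ i, x ^ r ^ i = 1) :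
    Odd (orderOf x) := by
  obtain ⟨i, hi⟩ := hxr
  obtain ⟨j, -, hj⟩ := (Nat.dvd_prime_pow hr).1 (orderOf_dvd_of_pow_eq_one hi)
  rw [hj]
  exact (hr.odd_of_ne_two hr2).pow

omit [Finite G] in
theorem coprime_orderOf {x : G} {r : ℕ} (hr : r.Prime) (hr2 : r ≠ 2) (hxr : ∃ i, x ^ r ^ i = 1) :
    (orderOf x).Coprime 2 :=
  Nat.coprime_two_right.2 (odd_orderOf hr hr2 hxr)

end Cfsg.Agent.S3Free
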